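import Cfsg.Agent.Lib.MTwelveUnique.General
import Cfsg.Agent.Lib.SmallGroups.SylowLocal
import Cfsg.Agent.Lib.SmallGroups.Order459648.Local
import Cfsg.Agent.Lib.Blocks.PrimeSylow
import Cfsg.Agent.Lib.SmallGroups.PrimeRational
import Mathlib

/-!
A group of order 12096 without elements of order 9, 14, 21: the elements of order seven and the
minimal normal subgroup.
-/

set_option autoImplicit false
set_option linter.style.haveILetI false
set_option linter.unusedSectionVars false

noncomputable section

namespace CfsgLib.GTwoTwoSpec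

open Subgroup
attribute [local instance] Classical.propDecidable

/-- The order and the three missing element orders. -/
structure Hyp (G : Type*) [Group G] : Prop where
  card : Nat.card G = 12096
  no9 : ∀ g : G, orderOf g ≠ 9
  no14 : ∀ g : G, orderOf g ≠ 14
  no21 : ∀ g : G, orderOf g ≠ 21

/-- A simple group of order `12096 / m` with the local data at the prime seven and no element of
order nine. -/
structure Sev (S : Type*) [Group S] (m : ℕ) : Prop where
  card : Nat.card S * m = 12096
  simple : IsSimpleGroup S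
  seven : ∀ x : S, orderOf x = 7 → Nat.card (centralizer ({x} : Set S)) = 7 ∧
    Nat.card (normalizer ((zpowers x : Subgroup S) : Set S)) * m = 42
  no9 : ∀ g : S, orderOf g ≠ 9

variable {G : Type*} [Group G] [Finite G]

/-- The elements of order seven of a group without elements of order 14 and 21 are self-centralising
when 7 divides the order once and 2, 3 are the other prime divisors. -/
theorem centralizer_card_of {n : ℕ} (hn : n ∣ 12096) (hcard : Nat.card G = n)
    (h14 : ∀ g : G, orderOf g ≠ 14) (h21 : ∀ g : G, orderOf g ≠ 21) {x : G} (hx : orderOf x = 7) :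
    Nat.card (centralizer ({x} : Set G)) = 7 := by
  set C := centralizer ({x} : Set G) with hC
  have hd : Nat.card C ∣ 12096 := ((card_subgroup_dvd_card C).trans (dvd_of_eq hcard)).trans hn
  have hxC : x ∈ C := mem_centralizer_singleton_iff.mpr rfl
  have h7 : 7 ∣ Nat.card C := hx ▸ Subgroup.orderOf_dvd_natCard C hxC
  have hq : ∀ q : ℕ, q.Prime → q ≠ 7 → q ∣ Nat.card C → ∃ g : G, orderOf g = 7 * q := by
    intro q hq hq7 hdq
    haveI := Fact.mk hq
    obtain ⟨c, hc⟩ := exists_prime_orderOf_dvd_card' (G := C) q hdq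
    have hcG : orderOf (c : G) = q := by rw [Subgroup.orderOf_coe, hc]
    refine ⟨x * c, ?_⟩
    have hcomm : Commute x (c : G) := (mem_centralizer_singleton_iff.mp c.2).symm
    rw [hcomm.orderOf_mul_eq_mul_orderOf_of_coprime
      (by rw [hx, hcG]; exact (Nat.coprime_primes (by norm_num) hq).mpr (Ne.symm hq7)), hx, hcG]
  have h2 : ¬ 2 ∣ Nat.card C := fun h => by
    obtain ⟨g, hg⟩ := hq 2 Nat.prime_two (by norm_num) h
    exact h14 g (by simpa using hg)
  have h3 : ¬ 3 ∣ Nat.card C := fun h => by
    obtain ⟨g, hg⟩ := hq 3 Nat.prime_three (by norm_num) h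
    exact h21 g (by simpa using hg)
  have key : ∀ c ∈ Nat.divisors 12096, c % 7 = 0 → c % 2 = 0 ∨ c % 3 = 0 ∨ c = 7 := by decide +kernel
  rcases key _ (Nat.mem_divisors.mpr ⟨hd, by norm_num⟩) (Nat.mod_eq_zero_of_dvd h7) with h | h | h
  · exact absurd (Nat.dvd_of_mod_eq_zero h) h2
  · exact absurd (Nat.dvd_of_mod_eq_zero h) h3
  · exact h

theorem centralizer_eq_zpowers {x : G} (hx : orderOf x = 7)
    (hC : Nat.card (centralizer ({x} : Set G)) = 7) :
    centralizer ({x} : Set G) = zpowers x :=
  (eq_of_le_of_card_ge (zpowers_le.mpr (mem_centralizer_singleton_iff.mpr rfl))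
    (by rw [hC, Nat.card_zpowers, hx])).symm

/-- The normalizer of a subgroup of order seven has order 42 in a group of order 12096. -/
theorem normalizer_card_of (hcard : Nat.card G = 12096)
    (hC : ∀ x : G, orderOf x = 7 → Nat.card (centralizer ({x} : Set G)) = 7) {x : G} (hx : orderOf x = 7) :
    Nat.card (normalizer ((zpowers x : Subgroup G) : Set G)) = 42 := by
  haveI : Fact (Nat.Prime 7) := ⟨by norm_num⟩
  have hG : Nat.card G = 7 ^ 1 * 1728 := by rw [hcard]; norm_num
  obtain ⟨P, hP⟩ := (IsPGroup.of_card (p := 7) (n := 1) (by rw [Nat.card_zpowers, hx, pow_one]) :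
    IsPGroup 7 (zpowers x)).exists_le_sylow
  have hPc : Nat.card (P : Subgroup G) = 7 := by
    simpa using CfsgLib.SmallGroups.card_sylow_eq hG (by norm_num) P
  have hPx : (P : Subgroup G) = zpowers x :=
    (eq_of_le_of_card_ge hP (by rw [hPc, Nat.card_zpowers, hx])).symm
  have hmul := CfsgLib.SmallGroups.Order459648.card_centralizer_mul_relIndex (P : Subgroup G)
  have he := CfsgLib.Blocks.PrimeSylow.relIndex_dvd P hPc
  have hC' : Nat.card (centralizer ((P : Subgroup G) : Set G)) = 7 := by
    rw [hPx, zpowers_eq_closure, centralizer_closure]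
    exact hC x hx
  rw [hC', hPx] at hmul
  rw [hPx] at he
  set e := (centralizer ((zpowers x : Subgroup G) : Set G)).relIndex (normalizer ((zpowers x : Subgroup G) : Set G))
  set N := normalizer ((zpowers x : Subgroup G) : Set G) with hN
  have hidx := Subgroup.card_mul_index N
  rw [hcard, ← hmul] at hidx
  have hn : N.index % 7 = 1 := by
    have h := CfsgLib.SmallGroups.card_sylow_eq_index P
    rw [hPx] at h
    rw [← h]
    exact CfsgLib.SmallGroups.mod_eq_one_card_sylow
  rw [← hmul]
  have key : ∀ e ∈ Nat.divisors 6, ∀ i < 1729, i % 7 = 1 → 7 * e * i = 12096 → e = 6 := by decide +kernel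
  have hi : N.index < 1729 := by
    have : 0 < e := Nat.pos_of_ne_zero fun h => by rw [h] at hidx; norm_num at hidx
    nlinarith
  rw [key e (Nat.mem_divisors.mpr ⟨he, by norm_num⟩) _ hi hn hidx]

namespace Hyp

variable (hH : Hyp G)
include hH

theorem centralizer_card {x : G} (hx : orderOf x = 7) : Nat.card (centralizer ({x} : Set G)) = 7 :=
  centralizer_card_of dvd_rfl hH.card hH.no14 hH.no21 hx

theorem normalizer_card {x : G} (hx : orderOf x = 7) :
    Nat.card (normalizer ((zpowers x : Subgroup G) : Set G)) = 42 :=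
  normalizer_card_of hH.card (fun _ h => hH.centralizer_card h) hx

/-- An element of order seven normalising a group of order prime to seven which it normalises
centralises no non-trivial element of it. -/
theorem eq_one_of_commute {x : G} (hx : orderOf x = 7) {v : G} (h : Commute v x) (hv : ¬ 7 ∣ orderOf v) :
    v = 1 := by
  have hm : v ∈ centralizer ({x} : Set G) := mem_centralizer_singleton_iff.mpr h
  have hd := Subgroup.orderOf_dvd_natCard (centralizer ({x} : Set G)) hm
  rw [hH.centralizer_card hx] at hd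
  rcases (Nat.dvd_prime (by norm_num : Nat.Prime 7)).mp hd with e | e
  · exact orderOf_eq_one_iff.mp e
  · exact absurd (e ▸ dvd_rfl) hv

omit [Finite G] in
theorem dvd_of_le_card {V : Subgroup G} {v : G} (hv : v ∈ V) (h7 : ¬ 7 ∣ Nat.card V) :
    ¬ 7 ∣ orderOf v := fun h => h7 (h.trans (Subgroup.orderOf_dvd_natCard V hv))

/-- A subgroup of order prime to seven normalised by an element of order seven is a 2-group. -/
theorem isPGroup_two {x : G} (hx : orderOf x = 7) {V : Subgroup G} (hxV : x ∈ normalizer (V : Set G))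
    (h7 : ¬ 7 ∣ Nat.card V) : IsPGroup 2 V := by
  classical
  haveI : Fact (Nat.Prime 7) := ⟨by norm_num⟩
  haveI : Fact (Nat.Prime 3) := ⟨Nat.prime_three⟩
  have hd : Nat.card V ∣ 12096 := hH.card ▸ card_subgroup_dvd_card V
  have h3 : ¬ 3 ∣ Nat.card V := by
    intro h3
    -- an element of order seven fixes a Sylow 3-subgroup of `V`
    let σ : Equiv.Perm (Sylow 3 V) := MulAction.toPermHom _ _ (normalizerMonoidHom V ⟨x, hxV⟩)
    have hσ : σ ^ 7 = 1 := by
      rw [← map_pow, ← map_pow, show (⟨x, hxV⟩ : normalizer (V : Set G)) ^ 7 = 1 from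
        Subtype.ext (by rw [SubmonoidClass.coe_pow, ← hx, pow_orderOf_eq_one, OneMemClass.coe_one]),
        map_one, map_one]
    haveI := Fintype.ofFinite (Sylow 3 V)
    have hn := CfsgLib.SmallGroups.DegreeEleven.card_filter_fixed_modEq (p := 7) σ hσ Finset.univ
      (fun z => by simp)
    have hn7 : ¬ 7 ∣ Fintype.card (Sylow 3 V) := by
      intro h
      obtain ⟨Q⟩ : Nonempty (Sylow 3 V) := inferInstance
      rw [← Nat.card_eq_fintype_card, CfsgLib.SmallGroups.card_sylow_eq_index Q] at h
      exact h7 (h.trans (Subgroup.index_dvd_card _))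
    obtain ⟨Q, hQ⟩ : ∃ Q : Sylow 3 V, σ Q = Q := by
      by_contra hne
      push Not at hne
      rw [Finset.filter_false_of_mem fun z _ => hne z, Finset.card_empty, Finset.card_univ] at hn
      exact hn7 (Nat.modEq_zero_iff_dvd.mp hn.symm)
    set R := (Q : Subgroup V).map V.subtype with hR
    have hxR : x ∈ normalizer (R : Set G) := by
      have hmap : R.map (MulAut.conj x).toMonoidHom = R := by
        have h := congrArg (fun Q : Sylow 3 V => (Q : Subgroup V)) hQ
        simp only [σ, MulAction.toPermHom_apply, MulAction.toPerm_apply] at h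
        conv_rhs => rw [hR, ← h]
        show _ = Subgroup.map V.subtype ((Q : Subgroup V).map (normalizerMonoidHom V ⟨x, hxV⟩).toMonoidHom)
        rw [hR, Subgroup.map_map, Subgroup.map_map]
        rfl
      intro r
      conv_rhs => rw [← hmap]
      exact (Subgroup.mem_map_iff_mem (f := (MulAut.conj x).toMonoidHom) (MulAut.conj x).injective).symm
    have hRc : Nat.card R = Nat.card (Q : Subgroup V) := card_map_of_injective V.subtype_injective
    obtain ⟨a, ha⟩ := IsPGroup.iff_card.mp Q.2
    have hRd : Nat.card R ∣ 27 := by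
      have h : Nat.card R ∣ 12096 := hH.card ▸ card_subgroup_dvd_card R
      rw [hRc, ha] at h ⊢
      have h' : 3 ^ a ∣ 27 * 448 := h
      exact (Nat.Coprime.pow_left a (by norm_num : Nat.Coprime 3 448)).dvd_of_dvd_mul_right h'
    have key : ∀ e ∈ Nat.divisors 27, ∀ d ∈ Nat.divisors e, d % 7 = e % 7 → d = e := by decide +kernel
    have hle := CfsgLib.MTwelveUnique.centralizes_of_modEq R (x := x) (p := 7)
      (by rw [← hx]; exact pow_orderOf_eq_one x) hxR
      (key _ (Nat.mem_divisors.mpr ⟨hRd, by norm_num⟩))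
    have hbot : R = ⊥ := (eq_bot_iff).mpr fun r hr => Subgroup.mem_bot.mpr
      (hH.eq_one_of_commute hx (mem_centralizer_singleton_iff.mp (hle hr))
        (dvd_of_le_card hH (map_subtype_le _ hr) h7))
    have h3Q : 3 ∣ Nat.card (Q : Subgroup V) := Sylow.dvd_card_of_dvd_card Q h3
    rw [← hRc, hbot, Subgroup.card_bot] at h3Q
    norm_num at h3Q
  refine IsPGroup.iff_card.mpr ?_
  have key : ∀ n ∈ Nat.divisors 12096, n % 7 = 0 ∨ n % 3 = 0 ∨ ∃ k < 7, n = 2 ^ k := by decide +kernel
  rcases key _ (Nat.mem_divisors.mpr ⟨hd, by norm_num⟩) with h | h | ⟨k, -, hk⟩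
  · exact absurd (Nat.dvd_of_mod_eq_zero h) h7
  · exact absurd (Nat.dvd_of_mod_eq_zero h) h3
  · exact ⟨k, hk⟩

theorem exists_seven : ∃ x : G, orderOf x = 7 := by
  haveI : Fact (Nat.Prime 7) := ⟨by norm_num⟩
  exact exists_prime_orderOf_dvd_card' 7 (by rw [hH.card]; norm_num)

/-- The order of a normal subgroup of order prime to seven. -/
theorem card_normal (V : Subgroup G) [V.Normal] (h7 : ¬ 7 ∣ Nat.card V) :
    Nat.card V = 1 ∨ Nat.card V = 8 ∨ Nat.card V = 64 := by
  classical
  haveI : Fact (Nat.Prime 7) := ⟨by norm_num⟩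
  obtain ⟨x, hx⟩ := hH.exists_seven
  have hxV : x ∈ normalizer (V : Set G) := by rw [normalizer_eq_top]; exact mem_top x
  obtain ⟨k, hk⟩ := IsPGroup.iff_card.mp (hH.isPGroup_two hx hxV h7)
  haveI := Fintype.ofFinite V
  let σ : Equiv.Perm V := (MulAut.conjNormal (H := V) x).toEquiv
  have hpow : ∀ (n : ℕ) (v : V), (σ ^ n) v = MulAut.conjNormal (H := V) (x ^ n) v := by
    intro n
    induction n with
    | zero => intro v; simp
    | succ n ih => intro v; rw [pow_succ', Equiv.Perm.mul_apply, ih, pow_succ', map_mul]; rfl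
  have hσ : σ ^ 7 = 1 := by
    ext v
    rw [hpow, show x ^ 7 = 1 by rw [← hx]; exact pow_orderOf_eq_one x, map_one]
    rfl
  have hn := CfsgLib.SmallGroups.DegreeEleven.card_filter_fixed_modEq (p := 7) σ hσ Finset.univ
    (fun z => by simp)
  have hone : (Finset.univ.filter fun v : V => σ v = v) = {1} := by
    ext v
    simp only [Finset.mem_filter, Finset.mem_univ, true_and, Finset.mem_singleton]
    refine ⟨fun h => Subtype.ext (hH.eq_one_of_commute hx ?_ (dvd_of_le_card hH v.2 h7)), fun h => by simp [h, σ]⟩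
    have h' : x * (v : G) * x⁻¹ = v := by simpa [σ] using congrArg Subtype.val h
    exact (mul_inv_eq_iff_eq_mul.mp h').symm
  rw [hone, Finset.card_singleton, Finset.card_univ, ← Nat.card_eq_fintype_card, hk] at hn
  have hd : Nat.card V ∣ 12096 := hH.card ▸ card_subgroup_dvd_card V
  rw [hk] at hd ⊢
  have key : ∀ n ∈ Nat.divisors 12096, n % 7 = 1 → n % 3 = 0 ∨ n = 1 ∨ n = 8 ∨ n = 64 := by decide +kernel
  refine (key _ (Nat.mem_divisors.mpr ⟨hd, by norm_num⟩) hn.symm).resolve_left fun h => ?_
  exact absurd (Nat.prime_three.dvd_of_dvd_pow (Nat.dvd_of_mod_eq_zero h)) (by norm_num)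

/-- Every element of order seven lies in a normal subgroup of order divisible by seven. -/
theorem mem_of_dvd (K : Subgroup G) [K.Normal] (h7 : 7 ∣ Nat.card K) {x : G} (hx : orderOf x = 7) :
    x ∈ K := by
  have hi : (K.index).Coprime 7 := by
    refine ((Nat.prime_iff.mpr ?_ : Nat.Prime 7).coprime_iff_not_dvd.mpr fun h => ?_).symm
    · exact Nat.prime_iff.mp (by norm_num)
    · have h49 := mul_dvd_mul h7 h
      rw [K.card_mul_index, hH.card] at h49
      norm_num at h49
  have hd : orderOf (QuotientGroup.mk' K x) ∣ Nat.gcd K.index 7 :=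
    Nat.dvd_gcd (orderOf_dvd_natCard _) (hx ▸ orderOf_map_dvd _ x)
  rw [hi.gcd_eq_one, Nat.dvd_one, orderOf_eq_one_iff] at hd
  exact (QuotientGroup.eq_one_iff x).mp hd

theorem normal_eq_bot (V : Subgroup G) [V.Normal] (h7 : ¬ 7 ∣ Nat.card V) : V = ⊥ := by
  classical
  haveI : Fact (Nat.Prime 7) := ⟨by norm_num⟩
  rcases hH.card_normal V h7 with h | h | h
  · exact Subgroup.card_eq_one.mp h
  · -- order eight: the kernel of the action on `V` has order prime to seven
    exfalso
    haveI := Fintype.ofFinite V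
    let f : G →* Equiv.Perm {v : V // v ≠ 1} :=
      { toFun := fun g => Equiv.subtypeEquiv (MulAut.conjNormal (H := V) g).toEquiv fun v => by simp
        map_one' := by ext v; simp
        map_mul' := fun a b => by ext v; simp [mul_assoc] }
    obtain ⟨x, hx⟩ := hH.exists_seven
    have hker : ¬ 7 ∣ Nat.card f.ker := fun h7k => by
      have hxk := hH.mem_of_dvd f.ker h7k hx
      have hV1 : V = ⊥ := (eq_bot_iff).mpr fun v hv => Subgroup.mem_bot.mpr (by
        by_contra hv1
        have h1 := congrArg (fun e : Equiv.Perm {v : V // v ≠ 1} => (((e ⟨⟨v, hv⟩, fun e => hv1 (congrArg Subtype.val e)⟩) : V) : G))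
          (MonoidHom.mem_ker.mp hxk)
        have h2 : x * v * x⁻¹ = v := by simpa [f] using h1
        exact hv1 (hH.eq_one_of_commute hx (mul_inv_eq_iff_eq_mul.mp h2).symm (dvd_of_le_card hH hv h7)))
      rw [hV1, Subgroup.card_bot] at h
      norm_num at h
    have hk := hH.card_normal f.ker hker
    have hr : Nat.card f.range ∣ 5040 := by
      refine (card_subgroup_dvd_card f.range).trans (dvd_of_eq ?_)
      rw [Nat.card_eq_fintype_card, Fintype.card_perm, Fintype.card_subtype_compl, Fintype.card_subtype_eq,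
        ← Nat.card_eq_fintype_card, h]
      norm_num [Nat.factorial]
    have hm := Subgroup.card_mul_index f.ker
    rw [Subgroup.index_ker, hH.card] at hm
    have h27 : 27 ∣ Nat.card f.range := by
      rcases hk with e | e | e <;> rw [e] at hm <;> omega
    have h5 := h27.trans hr
    norm_num at h5
  · exfalso
    obtain ⟨x, hx⟩ := hH.exists_seven
    obtain ⟨P, hP⟩ := (IsPGroup.of_card (p := 7) (n := 1) (by rw [Nat.card_zpowers, hx, pow_one]) :
      IsPGroup 7 (zpowers x)).exists_le_sylow
    have hG : Nat.card G = 7 ^ 1 * 1728 := by rw [hH.card]; norm_num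
    have hPc : Nat.card (P : Subgroup G) = 7 := by
      simpa using CfsgLib.SmallGroups.card_sylow_eq hG (by norm_num) P
    have hPx : (P : Subgroup G) = zpowers x :=
      (eq_of_le_of_card_ge hP (by rw [hPc, Nat.card_zpowers, hx])).symm
    -- the quotient of order 189 has a normal Sylow 7-subgroup
    set q := QuotientGroup.mk' V with hq
    have hqc : Nat.card (G ⧸ V) = 7 ^ 1 * 27 := by
      have hm := V.card_mul_index
      rw [h, hH.card, Subgroup.index] at hm
      omega
    have hn1 : Nat.card (Sylow 7 (G ⧸ V)) = 1 := by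
      have hm := CfsgLib.SmallGroups.card_sylow_mem_filter (p := 7) hqc (by norm_num)
      revert hm
      generalize Nat.card (Sylow 7 (G ⧸ V)) = n
      intro hm
      rw [show ((Finset.range (27 + 1)).filter fun d => 27 % d = 0 ∧ d % 7 = 1) = {1} by decide +kernel,
        Finset.mem_singleton] at hm
      exact hm
    obtain ⟨Q⟩ : Nonempty (Sylow 7 (G ⧸ V)) := inferInstance
    haveI := CfsgLib.SmallGroups.sylow_normal_of_card_eq_one hn1 Q
    set W := (Q : Subgroup (G ⧸ V)).comap q with hW
    haveI : W.Normal := Subgroup.Normal.comap inferInstance q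
    have hQc : Nat.card (Q : Subgroup (G ⧸ V)) = 7 := by
      simpa using CfsgLib.SmallGroups.card_sylow_eq hqc (by norm_num) Q
    have hWi : W.index = 27 := by
      have h1 := (Q : Subgroup (G ⧸ V)).card_mul_index
      rw [hQc, hqc] at h1
      rw [hW, Subgroup.index_comap_of_surjective _ (QuotientGroup.mk'_surjective V)]
      omega
    have hWc : Nat.card W = 448 := by
      have h1 := W.card_mul_index
      rw [hWi, hH.card] at h1
      omega
    have hxW : x ∈ W := hH.mem_of_dvd W (by rw [hWc]; norm_num) hx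
    have hall := CfsgLib.SmallGroups.SylowLocal.card_sylow_eq_card_le P (H := W) (hPx ▸ zpowers_le.mpr hxW)
    have hle : ∀ R : Sylow 7 G, (R : Subgroup G) ≤ W := fun R r hr => by
      by_cases hr1 : r = 1
      · exact hr1 ▸ one_mem W
      · refine hH.mem_of_dvd W (by rw [hWc]; norm_num) (((Nat.dvd_prime (by norm_num : Nat.Prime 7)).mp
          ((Subgroup.orderOf_dvd_natCard _ hr).trans (dvd_of_eq ?_))).resolve_left fun e => hr1 (orderOf_eq_one_iff.mp e))
        simpa using CfsgLib.SmallGroups.card_sylow_eq hG (by norm_num) R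
    rw [Nat.card_congr (Equiv.subtypeUnivEquiv hle), CfsgLib.SmallGroups.card_sylow_eq_index P, hPx] at hall
    have hidx := Subgroup.card_mul_index (normalizer ((zpowers x : Subgroup G) : Set G))
    rw [hH.normalizer_card hx, hH.card] at hidx
    have hdv := CfsgLib.SmallGroups.card_sylow_dvd_of_card_eq (p := 7) (G := W) (a := 1) (m := 64)
      (by rw [hWc]; norm_num) (by norm_num)
    rw [hall, show (normalizer ((zpowers x : Subgroup G) : Set G)).index = 288 by omega] at hdv
    norm_num at hdv

/-- The simple normal subgroup containing every element of order seven. -/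
theorem exists_simple : ∃ (S : Subgroup G) (m : ℕ), S.Normal ∧ S.index = m ∧ m ∈ [1, 2, 3, 6] ∧ Sev S m ∧
    ∀ K : Subgroup G, K.Normal → K ≠ ⊥ → S ≤ K := by
  classical
  haveI : Fact (Nat.Prime 7) := ⟨by norm_num⟩
  obtain ⟨x, hx⟩ := hH.exists_seven
  set S := normalClosure ({x} : Set G) with hS
  haveI : S.Normal := normalClosure_normal
  have hmin : ∀ K : Subgroup G, K.Normal → K ≠ ⊥ → S ≤ K := fun K hK hne => by
    haveI := hK
    have h7 : 7 ∣ Nat.card K := by
      by_contra h7
      exact hne (hH.normal_eq_bot K h7)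
    exact normalClosure_le_normal (Set.singleton_subset_iff.mpr (hH.mem_of_dvd K h7 hx))
  have hxS : x ∈ S := subset_normalClosure rfl
  have hx1 : x ≠ 1 := fun e => by rw [e, orderOf_one] at hx; norm_num at hx
  have h7S : 7 ∣ Nat.card S := hx ▸ Subgroup.orderOf_dvd_natCard S hxS
  haveI : Nontrivial S := ⟨⟨⟨x, hxS⟩, 1, fun e => hx1 (congrArg Subtype.val e)⟩⟩
  have hsimple : IsSimpleGroup S := by
    refine ⟨fun K hK => ?_⟩
    by_cases h7 : 7 ∣ Nat.card K
    · refine Or.inr (eq_top_iff.mpr fun s _ => ?_)
      -- `K` holds every element of order seven, hence the whole normal closure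
      have hall : ∀ y : G, orderOf y = 7 → y ∈ K.map S.subtype := by
        intro y hy
        have hyS := hH.mem_of_dvd S h7S hy
        refine ⟨⟨y, hyS⟩, ?_, rfl⟩
        have hi : ¬ 7 ∣ K.index := fun h => by
          have h49 := (mul_dvd_mul h7 h).trans (dvd_of_eq K.card_mul_index) |>.trans
            (card_subgroup_dvd_card S)
          rw [hH.card] at h49
          norm_num at h49
        have hd : orderOf (QuotientGroup.mk' K ⟨y, hyS⟩) ∣ Nat.gcd K.index 7 :=
          Nat.dvd_gcd (orderOf_dvd_natCard _) ((orderOf_map_dvd _ _).trans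
            (dvd_of_eq (by rw [Subgroup.orderOf_mk, hy])))
        rw [((by norm_num : Nat.Prime 7).coprime_iff_not_dvd.mpr hi).symm.gcd_eq_one, Nat.dvd_one,
          orderOf_eq_one_iff] at hd
        exact (QuotientGroup.eq_one_iff _).mp hd
      have hle : S ≤ K.map S.subtype := by
        show normalClosure ({x} : Set G) ≤ _
        refine (Subgroup.closure_le _).mpr fun y hy => hall y ?_
        obtain ⟨a, ha, hc⟩ := Group.mem_conjugatesOfSet_iff.mp hy
        obtain ⟨g, rfl⟩ := isConj_iff.mp hc
        rw [Set.mem_singleton_iff] at ha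
        rw [ha, show g * x * g⁻¹ = (MulAut.conj g).toMonoidHom x from rfl,
          orderOf_injective _ (MulAut.conj g).injective, hx]
      obtain ⟨k, hk, hks⟩ := hle s.2
      exact (Subtype.ext hks : k = s) ▸ hk
    · refine Or.inl ((eq_bot_iff).mpr fun k hk => Subgroup.mem_bot.mpr ?_)
      -- `K` is a normal 2-subgroup, inside every Sylow 2-subgroup of `S`
      haveI : Fact (Nat.Prime 2) := ⟨Nat.prime_two⟩
      have hxN : x ∈ normalizer ((K.map S.subtype : Subgroup G) : Set G) :=
        Subgroup.le_normalizer_map S.subtype ⟨⟨x, hxS⟩, by rw [normalizer_eq_top]; exact mem_top _, rfl⟩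
      have hKc : Nat.card (K.map S.subtype) = Nat.card K := card_map_of_injective S.subtype_injective
      have hK2 : IsPGroup 2 K :=
        (hH.isPGroup_two hx hxN (hKc ▸ h7)).of_equiv (K.equivMapOfInjective _ S.subtype_injective).symm
      obtain ⟨Q, hQ⟩ := hK2.exists_le_sylow
      set W : Subgroup S := ⨅ R : Sylow 2 S, (R : Subgroup S) with hW
      have hKW : K ≤ W := le_iInf fun R => by
        obtain ⟨g, hg⟩ := MulAction.exists_smul_eq S Q R
        intro a ha
        rw [← hg, Sylow.coe_subgroup_smul]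
        refine ⟨g⁻¹ * a * g, hQ (by simpa using hK.conj_mem a ha g⁻¹), ?_⟩
        simp [mul_assoc]
      haveI hWc : W.Characteristic := Subgroup.characteristic_iff_le_comap.mpr fun φ a ha => by
        rw [hW, Subgroup.mem_iInf] at ha
        show φ.toMonoidHom a ∈ W
        rw [hW, Subgroup.mem_iInf]
        intro R
        have h1 := ha (φ⁻¹ • R)
        change a ∈ (R : Subgroup S).map (φ⁻¹ : MulAut S).toMonoidHom at h1
        obtain ⟨r, hr, hra⟩ := h1
        rw [show φ.toMonoidHom a = r by
          rw [← hra]; exact φ.apply_symm_apply r]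
        exact hr
      have hW2 : IsPGroup 2 W := Q.2.to_le (iInf_le (fun R : Sylow 2 S => (R : Subgroup S)) Q)
      have hbot := hH.normal_eq_bot (W.map S.subtype) (fun h => by
        rw [card_map_of_injective S.subtype_injective] at h
        obtain ⟨e, he⟩ := IsPGroup.iff_card.mp hW2
        rw [he] at h
        exact absurd ((by norm_num : Nat.Prime 7).dvd_of_dvd_pow h) (by norm_num))
      have : (k : G) ∈ (⊥ : Subgroup G) := hbot ▸ mem_map_of_mem S.subtype (hKW hk)
      exact Subtype.ext (Subgroup.mem_bot.mp this)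
  -- the index divides six
  set m := S.index with hm
  have hcS : ∀ y : S, orderOf y = 7 → Nat.card (centralizer ({y} : Set S)) = 7 := fun y hy =>
    centralizer_card_of ((card_subgroup_dvd_card S).trans (dvd_of_eq hH.card)) rfl
      (fun g => by rw [← Subgroup.orderOf_coe]; exact hH.no14 g)
      (fun g => by rw [← Subgroup.orderOf_coe]; exact hH.no21 g) hy
  obtain ⟨P, hP⟩ := (IsPGroup.of_card (p := 7) (n := 1) (by rw [Nat.card_zpowers, hx, pow_one]) :
    IsPGroup 7 (zpowers x)).exists_le_sylow
  have hG : Nat.card G = 7 ^ 1 * 1728 := by rw [hH.card]; norm_num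
  have hall : ∀ R : Sylow 7 G, (R : Subgroup G) ≤ S := fun R r hr => by
    by_cases hr1 : r = 1
    · exact hr1 ▸ one_mem S
    · refine hH.mem_of_dvd S h7S (((Nat.dvd_prime (by norm_num : Nat.Prime 7)).mp
        ((Subgroup.orderOf_dvd_natCard _ hr).trans (dvd_of_eq ?_))).resolve_left fun e => hr1 (orderOf_eq_one_iff.mp e))
      simpa using CfsgLib.SmallGroups.card_sylow_eq hG (by norm_num) R
  have hNS : ∀ y : G, orderOf y = 7 →
      Nat.card (normalizer ((zpowers y : Subgroup G) : Set G) ⊓ S : Subgroup G) * m = 42 := by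
    intro y hy
    obtain ⟨R, hR⟩ := (IsPGroup.of_card (p := 7) (n := 1) (by rw [Nat.card_zpowers, hy, pow_one]) :
      IsPGroup 7 (zpowers y)).exists_le_sylow
    have hRy : (R : Subgroup G) = zpowers y :=
      (eq_of_le_of_card_ge hR (by
        rw [show Nat.card (R : Subgroup G) = 7 by simpa using CfsgLib.SmallGroups.card_sylow_eq hG (by norm_num) R,
          Nat.card_zpowers, hy])).symm
    have h1 := CfsgLib.SmallGroups.SylowLocal.card_eq_mul_inf R (hall R)
    rw [CfsgLib.SmallGroups.SylowLocal.card_sylow_eq_card_le R (hall R), Nat.card_congr (Equiv.subtypeUnivEquiv hall),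
      CfsgLib.SmallGroups.card_sylow_eq_index R, hRy] at h1
    have hidx := Subgroup.card_mul_index (normalizer ((zpowers y : Subgroup G) : Set G))
    rw [hH.normalizer_card hy, hH.card] at hidx
    have h2 := S.card_mul_index
    rw [h1, hH.card, ← hm, show (normalizer ((zpowers y : Subgroup G) : Set G)).index = 288 by omega,
      mul_assoc] at h2
    omega
  have hm6 : m ∈ [1, 2, 3, 6] := by
    have h := hNS x hx
    have h7 : 7 ∣ Nat.card (normalizer ((zpowers x : Subgroup G) : Set G) ⊓ S : Subgroup G) :=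
      hx ▸ Subgroup.orderOf_dvd_natCard _ (⟨le_normalizer (mem_zpowers x), hxS⟩ : x ∈ _ ⊓ S)
    obtain ⟨k, hk⟩ := h7
    rw [hk] at h
    have hk6 : k * m = 6 := by rw [mul_assoc] at h; omega
    have hd : m ∈ Nat.divisors 6 := Nat.mem_divisors.mpr ⟨Dvd.intro_left k hk6, by norm_num⟩
    revert hd
    rw [show Nat.divisors 6 = {1, 2, 3, 6} by decide +kernel]
    simp
  refine ⟨S, m, inferInstance, rfl, hm6, ⟨by rw [← hH.card, ← S.card_mul_index], hsimple, fun y hy => ⟨hcS y hy, ?_⟩,
    fun g => by rw [← Subgroup.orderOf_coe]; exact hH.no9 g⟩, hmin⟩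
  rw [← hNS (y : G) (by rw [Subgroup.orderOf_coe, hy])]
  congr 1
  have hle : zpowers (y : G) ≤ S := zpowers_le.mpr y.2
  have he : (zpowers (y : G)).subgroupOf S = zpowers y := by
    rw [show zpowers (y : G) = (zpowers y).map S.subtype from (MonoidHom.map_zpowers S.subtype y).symm,
      Subgroup.subgroupOf, comap_map_eq_self_of_injective S.subtype_injective]
  rw [← he, ← Subgroup.subgroupOf_normalizer_eq hle, ← Subgroup.inf_subgroupOf_right,
    Nat.card_congr (Subgroup.subgroupOfEquivOfLe inf_le_right).toEquiv]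

end Hyp

end CfsgLib.GTwoTwoSpec
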