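import Cfsg.Agent.Lib.GTwoTwoSpec.Basic
import Cfsg.Agent.Lib.MTwentyTwoUnique.SelfCent
import Cfsg.Agent.Lib.MTwelveUnique.Common
import Cfsg.Agent.Lib.SmallGroups.InvertingInvolution
import Cfsg.Agent.Lib.Char.PermLemma
import Cfsg.Agent.Lib.Char.DefectZero
import Mathlib

/-!
The principal 7-block of the simple group: the class-product relation, the bound on a column and
the integrality of the values at elements of order three.
-/

set_option autoImplicit false
set_option linter.style.haveILetI false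
set_option linter.unusedSectionVars false

noncomputable section

namespace CfsgLib.GTwoTwoSpec

open Subgroup CfsgLib.InvolChar CfsgLib.MTwentyTwoUnique Cfsg
open scoped ComplexConjugate
attribute [local instance] Classical.propDecidable

variable {S : Type*} [Group S] [Fintype S]

namespace Sev

variable {m : ℕ} (hS : Sev S m) (hm : m ∣ 6)

include hS hm

theorem card_eq : Nat.card S = 7 ^ 1 * (1728 / m) := by
  have h := hS.card
  have : m ∈ Nat.divisors 6 := Nat.mem_divisors.mpr ⟨hm, by norm_num⟩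
  rw [show Nat.divisors 6 = {1, 2, 3, 6} by decide +kernel] at this
  simp only [Finset.mem_insert, Finset.mem_singleton] at this
  rcases this with rfl | rfl | rfl | rfl <;> norm_num at h ⊢ <;> omega

theorem not_seven_dvd : ¬ 7 ∣ 1728 / m := by
  have : m ∈ Nat.divisors 6 := Nat.mem_divisors.mpr ⟨hm, by norm_num⟩
  rw [show Nat.divisors 6 = {1, 2, 3, 6} by decide +kernel] at this
  simp only [Finset.mem_insert, Finset.mem_singleton] at this
  rcases this with rfl | rfl | rfl | rfl <;> norm_num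

theorem exists_seven : ∃ x : S, orderOf x = 7 := by
  haveI : Fact (Nat.Prime 7) := ⟨by norm_num⟩
  exact exists_prime_orderOf_dvd_card' 7 (by rw [card_eq hS hm]; exact dvd_mul_right _ _)

theorem not_comm : ¬ IsMulCommutative S := by
  haveI := hS.simple
  refine CfsgLib.SmallGroups.not_isMulCommutative_of_not_prime ?_
  rw [card_eq hS hm]
  refine Nat.not_prime_mul (by norm_num) ?_
  have : m ≤ 6 := Nat.le_of_dvd (by norm_num) hm
  have : 1728 / 6 ≤ 1728 / m := Nat.div_le_div_left this (Nat.pos_of_dvd_of_pos hm (by norm_num))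
  omega

theorem linear_trivial (f : S →* ℂˣ) : f = 1 := by
  haveI := hS.simple
  ext g
  have hp : commutator S = ⊤ := CfsgLib.SmallGroups.commutator_eq_top_of_simple (not_comm hS hm)
  have hg : g ∈ f.ker := Abelianization.commutator_subset_ker f (by rw [hp]; exact mem_top g)
  exact congrArg Units.val (MonoidHom.mem_ker.mp hg)

theorem exists_sc (e : ℕ) (he : e * m = 6) : Nonempty (SC S 7 e) := by
  haveI : Fact (Nat.Prime 7) := ⟨by norm_num⟩
  obtain ⟨P⟩ : Nonempty (Sylow 7 S) := inferInstance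
  have hP : Nat.card (P : Subgroup S) = 7 := by
    simpa using CfsgLib.SmallGroups.card_sylow_eq (card_eq hS hm) (not_seven_dvd hS hm) P
  obtain ⟨h1, h2⟩ := hS.seven _ (CfsgLib.Blocks.PrimeSylow.orderOf_gen P hP)
  rw [← centralizer_closure, ← zpowers_eq_closure, CfsgLib.Blocks.PrimeSylow.zpowers_gen P hP] at h1
  rw [CfsgLib.Blocks.PrimeSylow.zpowers_gen P hP] at h2
  refine MTwentyTwoUnique.exists_sc P hP h1 e ?_
  have h := CfsgLib.SmallGroups.Order459648.card_centralizer_mul_relIndex (P : Subgroup S)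
  rw [h1] at h
  rw [← h, mul_assoc] at h2
  have : (centralizer ((P : Subgroup S) : Set S)).relIndex (normalizer ((P : Subgroup S) : Set S)) * m = 6 := by
    omega
  exact Nat.eq_of_mul_eq_mul_right (Nat.pos_of_dvd_of_pos hm (by norm_num)) (this.trans he.symm)

theorem centralizer_eq {x : S} (hx : orderOf x = 7) : centralizer ({x} : Set S) = zpowers x :=
  centralizer_eq_zpowers hx (hS.seven x hx).1

/-- The centraliser of an element of order prime to seven has order prime to seven. -/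
theorem not_seven_dvd_centralizer {t : S} (ht : t ≠ 1) (h7 : ¬ 7 ∣ orderOf t) :
    ¬ 7 ∣ Nat.card (centralizer ({t} : Set S)) := by
  haveI : Fact (Nat.Prime 7) := ⟨by norm_num⟩
  intro h
  obtain ⟨c, hc⟩ := exists_prime_orderOf_dvd_card' (G := centralizer ({t} : Set S)) 7 h
  have hcG : orderOf (c : S) = 7 := by rw [Subgroup.orderOf_coe, hc]
  have hmem : t ∈ centralizer ({(c : S)} : Set S) :=
    mem_centralizer_singleton_iff.mpr (mem_centralizer_singleton_iff.mp c.2).symm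
  have hd := Subgroup.orderOf_dvd_natCard _ hmem
  rw [(hS.seven _ hcG).1] at hd
  rcases (Nat.dvd_prime (by norm_num : Nat.Prime 7)).mp hd with e | e
  · exact ht (orderOf_eq_one_iff.mp e)
  · exact h7 (dvd_of_eq e.symm)

theorem deg_dvd (χ : IrrCharacter S) : deg χ ∣ 12096 / m := by
  rw [← hS.card, Nat.mul_div_cancel _ (Nat.pos_of_dvd_of_pos hm (by norm_num))]
  exact CfsgLib.Char.degree_dvd_card χ.2 (deg_spec χ)

theorem two_le_deg {χ : IrrCharacter S} (h : χ ≠ CfsgLib.Char.irrOne) : 2 ≤ deg χ := by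
  haveI := hS.simple
  by_contra hc
  have h1 : deg χ = 1 := by have := deg_pos χ; omega
  exact h (CfsgLib.SmallGroups.MElevenDegrees.eq_irrOne_of_deg_one (not_comm hS hm) χ h1)

theorem val_lt {χ : IrrCharacter S} (h : χ ≠ CfsgLib.Char.irrOne) {g : S} (hg : g ≠ 1) {z : ℤ}
    (hz : (χ : S → ℂ) g = (z : ℂ)) : z.natAbs < deg χ := by
  haveI := hS.simple
  have h1 := CfsgLib.MTwelveUnique.sq_lt_deg_sq (not_comm hS hm) χ h hg hz
  by_contra hc
  have : (deg χ : ℤ) ≤ z.natAbs := by exact_mod_cast not_lt.mp hc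
  nlinarith [Int.natAbs_mul_self' z, deg_pos χ]

end Sev

/-- The squares of the degrees in the block. -/
theorem sum_deg_sq_le {e : ℕ} (B : SC S 7 e) :
    ∑ χ ∈ B.X, (deg χ : ℤ) * deg χ + (B.Y.card : ℤ) * (B.f * B.f) ≤ Nat.card S := by
  have hY : ∑ θ ∈ B.Y, (deg θ : ℤ) * deg θ = (B.Y.card : ℤ) * (B.f * B.f) := by
    rw [Finset.sum_congr rfl fun θ hθ => by rw [B.deg_Y θ hθ], Finset.sum_const, nsmul_eq_mul]
  rw [← hY, ← Finset.sum_union B.disj]
  refine (Finset.sum_le_sum_of_subset_of_nonneg (Finset.subset_univ _) fun χ _ _ => mul_self_nonneg _).trans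
    (le_of_eq ?_)
  have h := CfsgLib.Char.sum_degree_sq (G := S)
  simp only [deg_spec, ← pow_two] at h ⊢
  exact_mod_cast h

/-- The common value of the exceptional characters. -/
def excVal {e : ℕ} (B : SC S 7 e) (v : IrrCharacter S → ℤ) : ℤ := B.ε * ∑ χ ∈ B.X, B.s χ * v χ

theorem val_Y {e : ℕ} (B : SC S 7 e) {t : S} (ht : ¬ 7 ∣ orderOf t) (v : IrrCharacter S → ℤ)
    (hv : ∀ χ ∈ B.X, (χ : S → ℂ) t = (v χ : ℂ)) :
    ∀ θ ∈ B.Y, (θ : S → ℂ) t = (excVal B v : ℂ) := by
  intro θ hθ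
  have h := B.rel θ hθ t ht
  rw [Finset.sum_congr rfl fun χ hχ => by rw [hv χ hχ]] at h
  have hε : (B.ε : ℂ) * B.ε = 1 := by rcases B.ε_sq with k | k <;> rw [k] <;> norm_num
  simp only [excVal, Int.cast_mul, Int.cast_sum]
  linear_combination (B.ε : ℂ) * h - (θ : S → ℂ) t * hε

/-- The bound on a column. -/
theorem sum_val_sq_le {e : ℕ} (B : SC S 7 e) {t : S} (v : IrrCharacter S → ℤ)
    (hv : ∀ χ ∈ B.X, (χ : S → ℂ) t = (v χ : ℂ)) (r : ℤ) (hr : ∀ θ ∈ B.Y, (θ : S → ℂ) t = (r : ℂ)) :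
    ∑ χ ∈ B.X, v χ * v χ + (B.Y.card : ℤ) * (r * r) ≤ Nat.card (centralizer ({t} : Set S)) := by
  have h := CfsgLib.Char.second_orthogonality t t
  rw [if_pos (IsConj.refl t)] at h
  have h2 : ∑ χ : IrrCharacter S, Complex.normSq ((χ : S → ℂ) t) =
      (Nat.card (centralizer ({t} : Set S)) : ℝ) := by
    have : ((∑ χ : IrrCharacter S, Complex.normSq ((χ : S → ℂ) t) : ℝ) : ℂ) =
        ((Nat.card (centralizer ({t} : Set S)) : ℝ) : ℂ) := by
      push_cast
      rw [← h]
      exact Finset.sum_congr rfl fun χ _ => (Complex.mul_conj _).symm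
    exact_mod_cast this
  have h3 := Finset.sum_le_sum_of_subset_of_nonneg
    (f := fun χ : IrrCharacter S => Complex.normSq ((χ : S → ℂ) t))
    (Finset.subset_univ (B.X ∪ B.Y)) fun χ _ _ => Complex.normSq_nonneg _
  rw [h2, Finset.sum_union B.disj,
    Finset.sum_congr rfl (g := fun χ => ((v χ * v χ : ℤ) : ℝ)) fun χ hχ => by
      rw [hv χ hχ, Complex.normSq_intCast]; push_cast; ring,
    Finset.sum_congr (rfl : B.Y = B.Y) (g := fun _ => ((r * r : ℤ) : ℝ)) fun χ hχ => by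
      rw [hr χ hχ, Complex.normSq_intCast]; push_cast; ring,
    Finset.sum_const, nsmul_eq_mul] at h3
  exact_mod_cast h3

/-- Pairs of conjugates of `t` with product an element of order seven. -/
def pairs (t x : S) : ℕ := Nat.card {q : S × S // IsConj t q.1 ∧ IsConj t q.2 ∧ q.1 * q.2 = x}

/-- The class-product relation seen in the block. -/
theorem formula {e : ℕ} (B : SC S 7 e) (he : ¬ 7 ∣ e) {x t : S} (hx : orderOf x = 7)
    (v : IrrCharacter S → ℤ) (hv : ∀ χ ∈ B.X, (χ : S → ℂ) t = (v χ : ℂ)) (r : ℤ)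
    (hr : ∀ θ ∈ B.Y, (θ : S → ℂ) t = (r : ℂ)) :
    ((Nat.card (centralizer ({t} : Set S)) : ℚ) * Nat.card (centralizer ({t} : Set S))) * pairs t x =
      (Nat.card S : ℚ) *
        (∑ χ ∈ B.X, ((B.s χ * v χ * v χ : ℤ) : ℚ) / deg χ - (B.ε : ℚ) * r * r / B.f) := by
  haveI : Fact (Nat.Prime 7) := ⟨by norm_num⟩
  have h := CfsgLib.Char.card_classProduct_eq t t x
  rw [← Finset.sum_subset (Finset.subset_univ (B.X ∪ B.Y)) (fun χ _ hχ => by
      rw [Finset.mem_union, not_or] at hχ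
      rw [B.out_zero χ hχ.1 hχ.2 x hx, map_zero, mul_zero, zero_div]), Finset.sum_union B.disj] at h
  have hY : ∑ θ ∈ B.Y, (θ : S → ℂ) t * (θ : S → ℂ) t * conj ((θ : S → ℂ) x) / (θ : S → ℂ) 1 =
      -((B.ε : ℂ) * r * r / B.f) := by
    rw [Finset.sum_congr rfl (g := fun θ : IrrCharacter S => (r : ℂ) * r / B.f * conj ((θ : S → ℂ) x))
      fun θ hθ => by rw [deg_spec, B.deg_Y θ hθ, hr θ hθ]; ring,
      ← Finset.mul_sum, ← map_sum, B.sum_Y he hx, map_neg, map_intCast]
    ring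
  have hX : ∑ χ ∈ B.X, (χ : S → ℂ) t * (χ : S → ℂ) t * conj ((χ : S → ℂ) x) / (χ : S → ℂ) 1 =
      ∑ χ ∈ B.X, ((B.s χ * v χ * v χ : ℤ) : ℂ) / deg χ :=
    Finset.sum_congr rfl fun χ hχ => by
      rw [deg_spec, B.val_X χ hχ x hx, hv χ hχ, map_intCast]; push_cast; ring
  rw [hX, hY] at h
  have eA : (Nat.card {y : S // IsConj t y} : ℂ) * (Nat.card (centralizer ({t} : Set S)) : ℂ) =
      (Nat.card S : ℂ) := by
    exact_mod_cast CfsgLib.Invol.card_conjugates_mul t
  have hG : (Nat.card S : ℂ) ≠ 0 := by exact_mod_cast Nat.card_pos.ne'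
  apply (Rat.cast_injective (α := ℂ))
  push_cast
  show _ * ((Nat.card {q : S × S // IsConj t q.1 ∧ IsConj t q.2 ∧ q.1 * q.2 = x} : ℕ) : ℂ) = _
  rw [h]
  push_cast
  set c := (Nat.card (centralizer ({t} : Set S)) : ℂ)
  set k := (Nat.card {y : S // IsConj t y} : ℂ)
  set T := (∑ χ ∈ B.X, (B.s χ : ℂ) * (v χ : ℂ) * (v χ : ℂ) / (deg χ : ℂ)) + -((B.ε : ℂ) * r * r / B.f)
  calc c * c * (k * k / (Nat.card S : ℂ) * T) = (k * c) * (k * c) / (Nat.card S : ℂ) * T := by ring
    _ = _ := by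
      rw [eA]
      field_simp
      simp only [T, div_eq_mul_inv]
      ring_nf

/-- The number of pairs is a multiple of seven. -/
theorem seven_dvd_pairs {m : ℕ} (hS : Sev S m) (hm : m ∣ 6) {x t : S} (hx : orderOf x = 7)
    (ht1 : t ≠ 1) (ht : ¬ 7 ∣ orderOf t) : 7 ∣ pairs t x := by
  haveI : Fact (Nat.Prime 7) := ⟨by norm_num⟩
  set T := {q : S × S // IsConj t q.1 ∧ IsConj t q.2 ∧ q.1 * q.2 = x}
  let σ : Equiv.Perm T := Equiv.subtypeEquiv
    ((MulAut.conj x).toEquiv.prodCongr (MulAut.conj x).toEquiv) fun q => by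
      have hc : ∀ a : S, IsConj t a ↔ IsConj t (x * a * x⁻¹) := fun a =>
        ⟨fun h => h.trans (isConj_iff.mpr ⟨x, rfl⟩), fun h => h.trans (isConj_iff.mpr ⟨x⁻¹, by group⟩)⟩
      simp only [Equiv.prodCongr_apply, Prod.map_fst, Prod.map_snd, MulEquiv.toEquiv_eq_coe,
        MulEquiv.coe_toEquiv, MulAut.conj_apply]
      rw [← hc, ← hc]
      refine and_congr Iff.rfl (and_congr Iff.rfl ⟨fun h => ?_, fun h => ?_⟩)
      · rw [show x * q.1 * x⁻¹ * (x * q.2 * x⁻¹) = x * (q.1 * q.2) * x⁻¹ by group, h, mul_inv_cancel_right]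
      · rw [show q.1 * q.2 = x⁻¹ * (x * q.1 * x⁻¹ * (x * q.2 * x⁻¹)) * x by group, h]; group
  have hpow : ∀ (n : ℕ) (q : T), ((σ ^ n) q).1 = (x ^ n * q.1.1 * (x ^ n)⁻¹, x ^ n * q.1.2 * (x ^ n)⁻¹) := by
    intro n
    induction n with
    | zero => intro q; simp
    | succ n ih =>
      intro q
      rw [pow_succ', Equiv.Perm.mul_apply]
      show (x * ((σ ^ n) q).1.1 * x⁻¹, x * ((σ ^ n) q).1.2 * x⁻¹) = _
      rw [ih]
      simp only [pow_succ', mul_inv_rev, mul_assoc]
  have hσ : σ ^ 7 = 1 := by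
    refine Equiv.ext fun q => Subtype.ext ?_
    rw [hpow, show x ^ 7 = 1 by rw [← hx]; exact pow_orderOf_eq_one x]
    simp
  haveI := Fintype.ofFinite T
  have hn := CfsgLib.SmallGroups.DegreeEleven.card_filter_fixed_modEq (p := 7) σ hσ Finset.univ
    (fun z => by simp)
  rw [Finset.filter_false_of_mem fun q _ hq => ?_, Finset.card_empty, Finset.card_univ,
    ← Nat.card_eq_fintype_card] at hn
  · exact Nat.modEq_zero_iff_dvd.mp hn.symm
  · obtain ⟨k, hk⟩ := isConj_iff.mp q.2.1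
    have h1 : x * q.1.1 * x⁻¹ = q.1.1 := congrArg (fun p : T => p.1.1) hq
    have hm' : q.1.1 ∈ centralizer ({x} : Set S) :=
      mem_centralizer_singleton_iff.mpr (mul_inv_eq_iff_eq_mul.mp h1).symm
    have hd := Subgroup.orderOf_dvd_natCard _ hm'
    rw [(hS.seven x hx).1, ← hk, show k * t * k⁻¹ = (MulAut.conj k).toMonoidHom t from rfl,
      orderOf_injective _ (MulAut.conj k).injective] at hd
    rcases (Nat.dvd_prime (by norm_num : Nat.Prime 7)).mp hd with e | e
    · exact ht1 (orderOf_eq_one_iff.mp e)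
    · exact ht (e ▸ dvd_rfl)

/-- A non-exceptional character alone of its degree is real. -/
theorem real_of_unique {e : ℕ} (B : SC S 7 e) {x : S} (hx : orderOf x = 7) {χ : IrrCharacter S}
    (hχ : χ ∈ B.X) (huniq : ∀ χ' ∈ B.X, deg χ' = deg χ → χ' = χ) (hf : deg χ ≠ B.f) (g : S) :
    conj ((χ : S → ℂ) g) = (χ : S → ℂ) g := by
  set ψ := CfsgLib.Char.irrConj χ with hψ
  have hd : deg ψ = deg χ := by
    have h : (ψ : S → ℂ) 1 = conj ((χ : S → ℂ) 1) := rfl
    rw [deg_spec, deg_spec, map_natCast] at h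
    exact_mod_cast h
  have hψx : (ψ : S → ℂ) x ≠ 0 := by
    show conj ((χ : S → ℂ) x) ≠ 0
    rw [B.val_X χ hχ x hx, map_intCast]
    rcases B.s_sq χ hχ with h | h <;> rw [h] <;> norm_num
  have hX : ψ ∈ B.X := by
    by_contra hnX
    by_cases hY : ψ ∈ B.Y
    · exact hf (hd ▸ B.deg_Y ψ hY)
    · exact hψx (B.out_zero ψ hnX hY x hx)
  exact congrArg (fun θ : IrrCharacter S => (θ : S → ℂ) g) (huniq ψ hX hd)

/-- A real character takes integral values at an element of order three, congruent to the degree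
modulo three. -/
theorem int_of_real_three (χ : IrrCharacter S) {t : S} (ht : orderOf t = 3)
    (hreal : conj ((χ : S → ℂ) t) = (χ : S → ℂ) t) :
    ∃ z : ℤ, (χ : S → ℂ) t = (z : ℂ) ∧ (3 : ℤ) ∣ (deg χ : ℤ) - z := by
  classical
  set P := Subgroup.zpowers t with hP
  obtain ⟨z, hz⟩ := CfsgLib.Char.classInner_gen_int
    (CfsgLib.Char.isGen_res P (CfsgLib.Char.isGen_of_irr χ.2))
    (CfsgLib.Char.isGen_of_irr (CfsgLib.Char.isIrrCharacter_one (G := P)))
  have hPc : Nat.card P = 3 := by rw [hP, Nat.card_zpowers, ht]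
  rw [CfsgLib.Char.classInner_def, hPc] at hz
  simp only [map_one, mul_one] at hz
  rw [inv_mul_eq_iff_eq_mul₀ (by norm_num), ← Finset.add_sum_erase _ _ (Finset.mem_univ (1 : P))] at hz
  have h1 : ∀ w ∈ (Finset.univ : Finset P).erase 1, (χ : S → ℂ) w = (χ : S → ℂ) t := fun w hw => by
    obtain ⟨k, hk, hkw⟩ : ∃ k < 3, t ^ k = (w : S) := by
      have := mem_zpowers_iff_mem_range_orderOf.mp (w.2 : (w : S) ∈ zpowers t)
      rw [ht] at this
      simpa using this
    interval_cases k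
    · exact absurd (Subtype.ext (by simpa using hkw.symm) : w = 1) (Finset.ne_of_mem_erase hw)
    · rw [← hkw, pow_one]
    · have ht2 : t ^ 2 = t⁻¹ := eq_inv_of_mul_eq_one_left (by
        rw [← pow_succ, show 2 + 1 = orderOf t from ht.symm, pow_orderOf_eq_one])
      rw [← hkw, ht2, CfsgLib.Char.char_inv (CfsgLib.Char.isCharacter_of_isIrr χ.2), hreal]
  rw [Finset.sum_congr rfl h1, Finset.sum_const, Finset.card_erase_of_mem (Finset.mem_univ _),
    Finset.card_univ, ← Nat.card_eq_fintype_card, hPc, nsmul_eq_mul, OneMemClass.coe_one, deg_spec] at hz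
  norm_num at hz
  obtain ⟨w, hw⟩ := CfsgLib.Char.exists_int_of_isIntegral_rat (q := ((3 * z - deg χ : ℤ) : ℚ) / 2) (by
    have := CfsgLib.Char.char_isIntegral (CfsgLib.Char.isCharacter_of_isIrr χ.2) t
    rw [show (χ : S → ℂ) t = ((((3 * z - deg χ : ℤ) : ℚ) / 2 : ℚ) : ℂ) by
      push_cast; linear_combination hz / 2] at this
    exact this)
  rw [div_eq_iff (by norm_num : (2 : ℚ) ≠ 0)] at hw
  have hwz : 3 * z - (deg χ : ℤ) = w * 2 := by exact_mod_cast hw
  refine ⟨w, ?_, ⟨z - w, by linarith⟩⟩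
  have hzc : (3 : ℂ) * (z : ℂ) - (deg χ : ℂ) = (w : ℂ) * 2 := by exact_mod_cast hwz
  linear_combination hz / 2 + hzc / 2

/-- Integral values at an element of order three on the non-exceptional characters. -/
theorem exists_vals_three {e : ℕ} (B : SC S 7 e) {x : S} (hx : orderOf x = 7) {t : S} (ht : orderOf t = 3)
    (huniq : ∀ χ ∈ B.X, deg χ ≠ B.f ∧ ∀ χ' ∈ B.X, deg χ' = deg χ → χ' = χ) :
    ∃ v : IrrCharacter S → ℤ, ∀ χ ∈ B.X, (χ : S → ℂ) t = (v χ : ℂ) ∧ (3 : ℤ) ∣ (deg χ : ℤ) - v χ := by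
  have h : ∀ χ ∈ B.X, ∃ z : ℤ, (χ : S → ℂ) t = (z : ℂ) ∧ (3 : ℤ) ∣ (deg χ : ℤ) - z := fun χ hχ =>
    int_of_real_three χ ht (real_of_unique B hx hχ (huniq χ hχ).2 (huniq χ hχ).1 t)
  choose v hv using h
  exact ⟨fun χ => if hχ : χ ∈ B.X then v χ hχ else 0, fun χ hχ => by simpa [hχ] using hv χ hχ⟩

end CfsgLib.GTwoTwoSpec
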