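import Mathlib

/-!
The finite searches for a simple group of order 12096: the degrees of the principal 7-block and the
values at involutions.
-/

set_option autoImplicit false

namespace CfsgLib.GTwoTwoSpec

/-- The sign of a degree in the principal block. -/
def sgOne (d : ℕ) : ℤ := if d % 7 = 1 then 1 else -1

/-- The candidates for a degree. -/
def candOne : List ℕ := [6, 8, 27, 36, 48, 64]

set_option synthInstance.maxSize 8192 in
set_option synthInstance.maxHeartbeats 400000 in
theorem candOne_mem : ∀ d : ℕ, d < 110 → 2 ≤ d → 12096 % d = 0 → d % 7 = 1 ∨ d % 7 = 6 → d ∈ candOne := by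
  decide +kernel

/-- The non-decreasing sequences of given length. -/
def monoSeqs (C : List ℕ) : ℕ → List (List ℕ)
  | 0 => [[]]
  | n + 1 => C.flatMap fun a => ((monoSeqs C n).filter fun l => l.all fun b => decide (a ≤ b)).map (a :: ·)

theorem mem_monoSeqs (C : List ℕ) : ∀ (l : List ℕ), l.Pairwise (· ≤ ·) → (∀ k ∈ l, k ∈ C) →
    l ∈ monoSeqs C l.length
  | [], _, _ => by simp [monoSeqs]
  | k :: l, hl, h => by
    rw [List.pairwise_cons] at hl
    simp only [List.length_cons, monoSeqs, List.mem_flatMap, List.mem_map, List.mem_filter, List.all_eq_true,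
      decide_eq_true_eq]
    exact ⟨k, h k (by simp), l, ⟨mem_monoSeqs C l hl.2 fun x hx => h x (by simp [hx]), hl.1⟩, rfl⟩

/-- The conditions on the degrees. -/
def degOk (ds : List ℕ) : Bool :=
  decide (1 + (ds.map fun d => sgOne d * (d : ℤ)).sum = 0 ∧ 1 + (ds.map fun d => d * d).sum ≤ 12096)

/-- The six possible degree lists. -/
def degSets : List (List ℕ) :=
  [[6, 6, 6, 8, 27, 36], [6, 8, 8, 8, 8, 27], [6, 8, 8, 27, 48, 64], [6, 8, 27, 36, 36, 48],
    [8, 8, 27, 27, 27, 64], [8, 27, 27, 27, 36, 36]]

set_option maxRecDepth 8000 in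
theorem search_one_deg : ∀ ds ∈ monoSeqs candOne 6, degOk ds = true → ds ∈ degSets := by decide +kernel

/-- The conditions on a value at an involution. -/
def okVal (d : ℕ) (v : ℤ) : Bool := decide (v.natAbs < d ∧ ((d : ℤ) - v) % 4 = 0)

/-- The candidates for a value. -/
def valsOne (d : ℕ) : List ℤ := ((List.range (2 * d)).map fun i : ℕ => (i : ℤ) - d).filter (okVal d)

theorem mem_valsOne {d : ℕ} {v : ℤ} (h : okVal d v = true) : v ∈ valsOne d := by
  have h' : v.natAbs < d := by simp only [okVal, decide_eq_true_eq] at h; exact h.1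
  refine List.mem_filter.mpr ⟨List.mem_map.mpr ⟨(v + d).toNat, List.mem_range.mpr ?_, ?_⟩, h⟩
  · omega
  · omega

/-- The weight of a square. -/
def wOne (d : ℕ) : ℤ := sgOne d * ((1728 / d : ℕ) : ℤ)

/-- No assignment of values with vanishing signed sum, ordered within equal degrees, violates the final
test. -/
def noSol (final : ℤ → ℤ → Bool) : List ℕ → ℕ → ℤ → ℤ → ℤ → ℤ → Bool
  | [], _, _, a, b, q => a != 0 || final b q
  | [d], _, _, a, b, q => !okVal d (-(sgOne d * a)) ||
      final (b + wOne d * (-(sgOne d * a) * -(sgOne d * a))) (q + -(sgOne d * a) * -(sgOne d * a))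
  | d :: e :: ds, pd, pv, a, b, q =>
      (valsOne d).all fun v => (Nat.beq d pd && decide (v < pv)) ||
        noSol final (e :: ds) d v (a + sgOne d * v) (b + wOne d * (v * v)) (q + v * v)

theorem sgOne_sq (d : ℕ) : sgOne d * sgOne d = 1 := by unfold sgOne; split <;> norm_num

theorem noSol_sound (final : ℤ → ℤ → Bool) : ∀ (ps : List (ℕ × ℤ)) (pd : ℕ) (pv a b q : ℤ),
    (∀ p ∈ ps, okVal p.1 p.2 = true) → (∀ p ∈ ps, p.1 = pd → pv ≤ p.2) →
    ps.Pairwise (fun x y => x.1 = y.1 → x.2 ≤ y.2) → a + (ps.map fun p => sgOne p.1 * p.2).sum = 0 →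
    noSol final (ps.map Prod.fst) pd pv a b q = true →
    final (b + (ps.map fun p => wOne p.1 * (p.2 * p.2)).sum) (q + (ps.map fun p => p.2 * p.2).sum) = true
  | [], pd, pv, a, b, q, _, _, _, ha, h => by
    simp only [List.map_nil, List.sum_nil, add_zero] at ha ⊢
    simpa [noSol, ha] using h
  | [(d, v)], pd, pv, a, b, q, hok, _, _, ha, h => by
    simp only [List.map_cons, List.map_nil, List.sum_cons, List.sum_nil, add_zero] at ha ⊢
    have hv : -(sgOne d * a) = v := by
      linear_combination (-(sgOne d)) * ha + v * sgOne_sq d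
    have h1 := hok (d, v) (by simp)
    simp only [List.map_cons, List.map_nil, noSol, hv] at h
    simpa [h1] using h
  | (d, v) :: p :: ps, pd, pv, a, b, q, hok, hpre, hord, ha, h => by
    rw [List.pairwise_cons] at hord
    simp only [List.map_cons, noSol, List.all_eq_true, Bool.or_eq_true, Bool.and_eq_true, decide_eq_true_eq] at h
    have := (h v (mem_valsOne (hok (d, v) (by simp)))).resolve_left fun ⟨e, hlt⟩ => by
      have := hpre (d, v) (by simp) (Nat.eq_of_beq_eq_true e)
      simp only at this
      omega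
    have ih := noSol_sound final (p :: ps) d v _ _ _ (fun x hx => hok x (by simp [hx]))
      (fun x hx e => hord.1 x hx e.symm) hord.2 (by
      simp only [List.map_cons, List.sum_cons] at ha ⊢
      linarith) this
    simp only [List.map_cons, List.sum_cons] at ih ⊢
    simp only [← add_assoc] at ih ⊢
    exact ih

/-- The orders of centralisers of the inverting involution. -/
def centsOne : List ℕ := [6, 12, 18, 24, 36, 48, 54, 72, 96, 108, 144, 192, 216, 288, 432, 576, 864, 1728]

theorem centsOne_mem : ∀ c ∈ Nat.divisors 12096, c % 7 ≠ 0 → c % 6 = 0 → c ∈ centsOne := by decide +kernel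

/-- The test excluding the class-sum values that are squares of the listed orders. -/
def finalSq (cs : List ℕ) (b q : ℤ) : Bool :=
  cs.all fun c => b != ((c * c : ℕ) : ℤ) || decide ((c : ℤ) < q)

/-- The same test with a quick rejection: all squares in question are divisible by 36. -/
def finalFast (cs : List ℕ) (b q : ℤ) : Bool := b % 36 != 0 || finalSq cs b q

theorem centsOne_sq : ∀ c ∈ centsOne, (c * c) % 36 = 0 := by decide +kernel

/-- The test for the last degree list. -/
def finalLast (b q : ℤ) : Bool := b != 0 && finalFast [192, 576, 1728] b q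

set_option maxRecDepth 8000 in
theorem search_first : ∀ ds ∈ [[6, 6, 6, 8, 27, 36], [6, 8, 8, 8, 8, 27], [6, 8, 8, 27, 48, 64],
    [6, 8, 27, 36, 36, 48], [8, 8, 27, 27, 27, 64]], noSol (finalFast centsOne) ds 0 0 1 1728 1 = true := by
  decide +kernel

set_option maxRecDepth 8000 in
theorem search_last : noSol finalLast [8, 27, 27, 27, 36, 36] 0 0 1 1728 1 = true := by
  decide +kernel

end CfsgLib.GTwoTwoSpec
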