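import Cfsg.Agent.Lib.GTwoTwoSpec.CaseThree
import Cfsg.Agent.Lib.GTwoTwoSpec.CaseOneSearch
import Mathlib

/-!
No simple group of order 12096 has these local data.
-/

set_option autoImplicit false
set_option linter.style.haveILetI false
set_option linter.unusedSectionVars false

noncomputable section

namespace CfsgLib.GTwoTwoSpec

open Subgroup CfsgLib.InvolChar CfsgLib.MTwentyTwoUnique Cfsg
attribute [local instance] Classical.propDecidable

variable {S : Type*} [Group S] [Fintype S]

/-- An element of order six normalising a subgroup of order seven, its cube inverting it. -/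
theorem exists_inverting (hS : Sev S 1) {x : S} (hx : orderOf x = 7) :
    ∃ z : S, orderOf z = 2 ∧ z * x * z⁻¹ = x⁻¹ ∧ 6 ∣ Nat.card (centralizer ({z} : Set S)) ∧
      z ∈ normalizer ((zpowers x : Subgroup S) : Set S) := by
  haveI : Fact (Nat.Prime 7) := ⟨by norm_num⟩
  have hC := Sev.centralizer_eq hS (one_dvd 6) hx
  have hN : Nat.card (normalizer ((zpowers x : Subgroup S) : Set S)) = 7 * (7 - 1) := by
    have := (hS.seven x hx).2; omega
  have hx7 : x ^ 7 = 1 := by rw [← hx]; exact pow_orderOf_eq_one x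
  have hpw : ∀ i : ℕ, x ^ i = x ^ (i % 7) := fun i => by
    conv_lhs => rw [← Nat.mod_add_div i 7, pow_add, pow_mul, hx7, one_pow, mul_one]
  have hne : ∀ i : ℕ, i % 7 ≠ 0 → x ^ i ≠ 1 := fun i hi h => hi (Nat.mod_eq_zero_of_dvd (hx ▸ orderOf_dvd_of_pow_eq_one h))
  obtain ⟨y, hy⟩ := isConj_iff.mp (CfsgLib.SmallGroups.PrimeRational.isConj_of_mem hx hC hN
    (u := x ^ 3) (pow_mem (mem_zpowers x) 3) (hne 3 (by norm_num)))
  have hconj : ∀ n : ℕ, y ^ n * x * (y ^ n)⁻¹ = x ^ (3 ^ n) := by
    intro n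
    induction n with
    | zero => simp
    | succ n ih =>
      rw [pow_succ' y, show y * y ^ n * x * (y * y ^ n)⁻¹ = y * (y ^ n * x * (y ^ n)⁻¹) * y⁻¹ by group, ih,
        ← conj_pow, hy, ← pow_mul, ← pow_succ']
  have h3 : y ^ 3 * x * (y ^ 3)⁻¹ = x⁻¹ := by
    rw [hconj 3, hpw, show (3 ^ 3) % 7 = 6 by norm_num]
    exact eq_inv_of_mul_eq_one_left (by rw [← pow_succ]; exact hx7)
  have h6 : y ^ 6 = 1 := by
    have hm : y ^ 6 ∈ centralizer ({x} : Set S) := by
      rw [mem_centralizer_singleton_iff]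
      exact mul_inv_eq_iff_eq_mul.mp (by rw [hconj 6, hpw, show (3 ^ 6) % 7 = 1 by norm_num, pow_one])
    rw [hC, mem_zpowers_iff_mem_range_orderOf, hx] at hm
    obtain ⟨j, hj, hjy⟩ : ∃ j < 7, x ^ j = y ^ 6 := by simpa using hm
    have h1 : x ^ (3 * j) = x ^ j := by
      rw [pow_mul, ← hy, conj_pow, hjy, mul_inv_eq_iff_eq_mul, ← pow_succ', ← pow_succ]
    have h2 : x ^ (2 * j) = 1 := by
      rw [show 3 * j = j + 2 * j by ring, pow_add] at h1
      exact mul_eq_left.mp h1
    have : j = 0 := by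
      by_contra h0
      exact hne (2 * j) (by omega) h2
    rw [← hjy, this, pow_zero]
  have hz1 : y ^ 3 ≠ 1 := fun e => by
    rw [e] at h3
    simp only [one_mul, inv_one, mul_one] at h3
    exact hne 2 (by norm_num) (by rw [pow_two]; nth_rewrite 2 [h3]; exact mul_inv_cancel x)
  have hz : orderOf (y ^ 3) = 2 := by
    haveI : Fact (Nat.Prime 2) := ⟨Nat.prime_two⟩
    exact orderOf_eq_prime (by rw [← pow_mul]; exact h6) hz1
  have hy2 : orderOf (y ^ 2) = 3 := by
    haveI : Fact (Nat.Prime 3) := ⟨Nat.prime_three⟩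
    refine orderOf_eq_prime (by rw [← pow_mul]; exact h6) fun e => ?_
    have h := hconj 2
    rw [e, one_mul, inv_one, mul_one, show (3 : ℕ) ^ 2 = 8 + 1 by norm_num, pow_succ] at h
    exact hne 8 (by norm_num) (mul_eq_right.mp h.symm)
  refine ⟨y ^ 3, hz, h3, ?_, ?_⟩
  · refine Nat.Coprime.mul_dvd_of_dvd_of_dvd (by norm_num : Nat.Coprime 2 3) ?_ ?_
    · exact (dvd_of_eq hz.symm).trans (Subgroup.orderOf_dvd_natCard _ (mem_centralizer_singleton_iff.mpr rfl))
    · exact (dvd_of_eq hy2.symm).trans (Subgroup.orderOf_dvd_natCard _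
        (mem_centralizer_singleton_iff.mpr (Commute.pow_pow_self y 2 3).eq))
  · have hmap : (zpowers x).map (MulAut.conj (y ^ 3)).toMonoidHom = zpowers x := by
      rw [MonoidHom.map_zpowers]
      show zpowers (y ^ 3 * x * (y ^ 3)⁻¹) = _
      rw [h3, zpowers_inv]
    intro r
    conv_rhs => rw [← hmap]
    exact (Subgroup.mem_map_iff_mem (f := (MulAut.conj (y ^ 3)).toMonoidHom) (MulAut.conj _).injective).symm

/-- An involution in the centre of a Sylow 2-subgroup. -/
theorem exists_central_invol (hS : Sev S 1) :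
    ∃ u : S, orderOf u = 2 ∧ 64 ∣ Nat.card (centralizer ({u} : Set S)) := by
  haveI : Fact (Nat.Prime 2) := ⟨Nat.prime_two⟩
  obtain ⟨P⟩ : Nonempty (Sylow 2 S) := inferInstance
  have hP : Nat.card (P : Subgroup S) = 64 := by
    simpa using CfsgLib.SmallGroups.card_sylow_eq
      (show Nat.card S = 2 ^ 6 * 189 by have := hS.card; omega) (by norm_num) P
  haveI : Nontrivial (P : Subgroup S) := Finite.one_lt_card_iff_nontrivial.mp (by rw [hP]; norm_num)
  haveI := P.2.center_nontrivial
  have h2 : 2 ∣ Nat.card (Subgroup.center (P : Subgroup S)) := by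
    obtain ⟨k, hk⟩ := IsPGroup.iff_card.mp (P.2.to_subgroup (Subgroup.center (P : Subgroup S)))
    have h1 : 1 < Nat.card (Subgroup.center (P : Subgroup S)) := Finite.one_lt_card
    rw [hk] at h1 ⊢
    exact dvd_pow_self 2 fun e => by rw [e, pow_zero] at h1; omega
  obtain ⟨z, hz⟩ := exists_prime_orderOf_dvd_card' (G := Subgroup.center (P : Subgroup S)) 2 h2
  refine ⟨((z : (P : Subgroup S)) : S), by rw [Subgroup.orderOf_coe, Subgroup.orderOf_coe, hz], ?_⟩
  rw [← hP]
  exact card_dvd_of_le fun s hs => mem_centralizer_singleton_iff.mpr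
    (congrArg Subtype.val (Subgroup.mem_center_iff.mp z.2 ⟨s, hs⟩))

set_option maxHeartbeats 800000 in
theorem not_index_one (hS : Sev S 1) : False := by
  haveI : Fact (Nat.Prime 7) := ⟨by norm_num⟩
  have hm := one_dvd 6
  have hcard : Nat.card S = 12096 := by have := hS.card; omega
  obtain ⟨x, hx⟩ := Sev.exists_seven hS hm
  obtain ⟨B⟩ := Sev.exists_sc hS hm 6 (by norm_num)
  obtain ⟨θ, hY⟩ := Finset.card_eq_one.mp (show B.Y.card = 1 by rw [B.card_Y])
  set σ : IrrCharacter S → ℤ := fun χ => if χ ∈ B.X then B.s χ else -B.ε with hσdef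
  set W := B.X ∪ B.Y with hW
  have hσX : ∀ χ ∈ B.X, σ χ = B.s χ := fun χ h => by simp [hσdef, h]
  have hθY : θ ∈ B.Y := by rw [hY]; exact Finset.mem_singleton_self θ
  have hθX : θ ∉ B.X := fun h => Finset.disjoint_left.mp B.disj h hθY
  have hσθ : σ θ = -B.ε := by simp [hσdef, hθX]
  have hσ7 : ∀ χ ∈ W, (7 : ℤ) ∣ (deg χ : ℤ) - σ χ ∧ (σ χ = 1 ∨ σ χ = -1) := by
    intro χ hχ
    rcases Finset.mem_union.mp hχ with h | h
    · rw [hσX χ h]; exact ⟨B.deg_X χ h, B.s_sq χ h⟩
    · rw [hY, Finset.mem_singleton] at h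
      subst h
      rw [hσθ, B.deg_Y _ hθY]
      have := B.deg_f
      rcases B.ε_sq with e | e <;> rw [e] at this ⊢ <;> push_cast at this ⊢ <;>
        exact ⟨by omega, by norm_num⟩
  have hsg : ∀ χ ∈ W, (deg χ % 7 = 1 ∨ deg χ % 7 = 6) ∧ σ χ = sgOne (deg χ) := by
    intro χ hχ
    obtain ⟨h, e | e⟩ := hσ7 χ hχ <;> rw [e] at h ⊢
    · have : deg χ % 7 = 1 := by omega
      exact ⟨Or.inl this, by simp [sgOne, this]⟩
    · have : deg χ % 7 = 6 := by omega
      exact ⟨Or.inr this, by simp [sgOne, this]⟩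
  have h1W : CfsgLib.Char.irrOne ∈ W := B.one_mem
  set W' := W.erase CfsgLib.Char.irrOne with hW'
  have hWc : W'.card = 6 := by
    rw [hW', Finset.card_erase_of_mem h1W, hW, Finset.card_union_of_disjoint B.disj, B.card_X, B.card_Y]
  have hsplit : ∀ {M : Type} [AddCommGroup M] (F : IrrCharacter S → M),
      ∑ χ ∈ B.X, F χ + F θ = F CfsgLib.Char.irrOne + ∑ χ ∈ W', F χ := fun F => by
    rw [hW', Finset.add_sum_erase W _ h1W, hW, Finset.sum_union B.disj, hY, Finset.sum_singleton]
  -- the sorted list of the six non-trivial degrees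
  set l := W'.toList.mergeSort (fun a b => decide (deg a ≤ deg b)) with hl
  have hperm : l.Perm W'.toList := List.mergeSort_perm _ _
  have hsorted : l.Pairwise fun a b => deg a ≤ deg b := by
    refine (List.pairwise_mergeSort (fun a b c h h' => ?_) (fun a b => ?_) _).imp fun h => of_decide_eq_true h
    · simp only [decide_eq_true_eq] at h h' ⊢; omega
    · simp only [Bool.or_eq_true, decide_eq_true_eq]; omega
  have hsum : ∀ {M : Type} [AddCommMonoid M] (F : IrrCharacter S → M), (l.map F).sum = ∑ χ ∈ W', F χ := fun F => by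
    rw [(hperm.map F).sum_eq, Finset.sum_map_toList]
  have hlmem : ∀ χ ∈ l, χ ∈ W ∧ χ ≠ CfsgLib.Char.irrOne := fun χ h => by
    have := Finset.mem_toList.mp (hperm.mem_iff.mp h)
    exact ⟨Finset.mem_of_mem_erase this, Finset.ne_of_mem_erase this⟩
  have hσ1 : σ CfsgLib.Char.irrOne = 1 := by
    rw [(hsg _ h1W).2, deg_irrOne]; rfl
  have hrel : 1 + (l.map fun χ => sgOne (deg χ) * (deg χ : ℤ)).sum = 0 := by
    rw [hsum, Finset.sum_congr rfl fun χ hχ => by rw [← (hsg χ (Finset.mem_of_mem_erase hχ)).2]]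
    have h := hsplit fun χ => σ χ * (deg χ : ℤ)
    rw [hσ1, deg_irrOne, hσθ, B.deg_Y θ hθY, Finset.sum_congr rfl fun χ hχ => by rw [hσX χ hχ],
      ← B.deg_rel hθY (by norm_num)] at h
    push_cast at h
    linarith
  have hsq : 1 + (l.map fun χ => deg χ * deg χ).sum ≤ 12096 := by
    have h := sum_deg_sq_le B
    have h2 := hsplit fun χ => (deg χ : ℤ) * deg χ
    rw [deg_irrOne, B.deg_Y θ hθY] at h2
    rw [B.card_Y, hcard] at h
    rw [hsum]
    have : ((1 + ∑ χ ∈ W', deg χ * deg χ : ℕ) : ℤ) ≤ ((12096 : ℕ) : ℤ) := by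
      push_cast at h h2 ⊢; linarith
    exact_mod_cast this
  have hds : l.map deg ∈ degSets := by
    refine search_one_deg _ ?_ ?_
    · rw [show 6 = (l.map deg).length by rw [List.length_map, hperm.length_eq, Finset.length_toList, hWc]]
      refine mem_monoSeqs _ _ (List.pairwise_map.mpr hsorted) fun d hd => ?_
      obtain ⟨χ, hχ, rfl⟩ := List.mem_map.mp hd
      obtain ⟨hχW, hχ1⟩ := hlmem χ hχ
      have hle : deg χ * deg χ ≤ (l.map fun χ => deg χ * deg χ).sum :=
        List.single_le_sum (fun _ _ => Nat.zero_le _) _ (List.mem_map.mpr ⟨χ, hχ, rfl⟩)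
      refine candOne_mem _ (by nlinarith) (Sev.two_le_deg hS hm hχ1) ?_ (hsg χ hχW).1
      exact Nat.mod_eq_zero_of_dvd (by simpa using Sev.deg_dvd hS hm χ)
    · simp only [degOk, decide_eq_true_eq, List.map_map]
      exact ⟨hrel, hsq⟩
  have hd1728 : ∀ χ ∈ l, deg χ ∣ 1728 := by
    intro χ hχ
    have key : ∀ ds ∈ degSets, ∀ d ∈ ds, 1728 % d = 0 := by decide +kernel
    exact Nat.dvd_of_mod_eq_zero (key _ hds _ (List.mem_map.mpr ⟨χ, hχ, rfl⟩))
  -- the facts at an involution
  have hinv : ∀ t : S, orderOf t = 2 → ∃ ps : List (ℕ × ℤ), ps.map Prod.fst = l.map deg ∧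
      ps.Pairwise (fun p p' => p.1 = p'.1 → p.2 ≤ p'.2) ∧
      (∀ p ∈ ps, okVal p.1 p.2 = true) ∧ (1 : ℤ) + (ps.map fun p => sgOne p.1 * p.2).sum = 0 ∧
      1 + (ps.map fun p => p.2 * p.2).sum ≤ (Nat.card (centralizer ({t} : Set S)) : ℤ) ∧
      ((Nat.card (centralizer ({t} : Set S)) : ℤ) * Nat.card (centralizer ({t} : Set S))) * pairs t x =
        7 * (1728 + (ps.map fun p => wOne p.1 * (p.2 * p.2)).sum) := by
    intro t ht
    have htt : t * t = 1 := by rw [← pow_two, ← ht, pow_orderOf_eq_one]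
    have ht1 : t ≠ 1 := fun e => by rw [e, orderOf_one] at ht; norm_num at ht
    set v : IrrCharacter S → ℤ := fun χ => intVal χ htt with hv
    have hvs : ∀ χ : IrrCharacter S, (χ : S → ℂ) t = (v χ : ℂ) := fun χ => intVal_spec χ htt
    have hr := val_Y B (t := t) (by rw [ht]; norm_num) v (fun χ _ => hvs χ)
    have hre : excVal B v = v θ := by
      have := (hr θ hθY).symm.trans (hvs θ)
      exact_mod_cast this
    have hv1 : v CfsgLib.Char.irrOne = 1 := intVal_irrOne htt
    set ps0 : List (ℕ × ℤ) := l.map fun χ => (deg χ, v χ) with hps0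
    set key : ℕ × ℤ → ℕ × ℤ → Bool := fun p p' => decide (p.1 < p'.1 ∨ (p.1 = p'.1 ∧ p.2 ≤ p'.2)) with hkey
    set ps := ps0.mergeSort key with hpsdef
    have hperm' : ps.Perm ps0 := List.mergeSort_perm _ _
    have hsorted' : ps.Pairwise fun p p' => p.1 < p'.1 ∨ (p.1 = p'.1 ∧ p.2 ≤ p'.2) := by
      refine (List.pairwise_mergeSort (fun a b c h h' => ?_) (fun a b => ?_) _).imp fun h => of_decide_eq_true h
      · simp only [hkey, decide_eq_true_eq] at h h' ⊢; omega
      · simp only [hkey, Bool.or_eq_true, decide_eq_true_eq]; omega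
    have hfst : ps.map Prod.fst = l.map deg := by
      have e : ps0.map Prod.fst = l.map deg := by rw [hps0, List.map_map]; rfl
      refine List.Perm.eq_of_pairwise (le := (· ≤ ·)) (fun a b _ _ h h' => le_antisymm h h') ?_
        (List.pairwise_map.mpr hsorted) ((hperm'.map Prod.fst).trans (List.Perm.of_eq e))
      exact List.pairwise_map.mpr (hsorted'.imp fun h => by omega)
    have hord : ps.Pairwise fun p p' => p.1 = p'.1 → p.2 ≤ p'.2 := hsorted'.imp fun h e => by omega
    refine ⟨ps, hfst, hord, fun p hp => ?_, ?_, ?_, ?_⟩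
    · revert hp; intro hp
      obtain ⟨χ, hχ, rfl⟩ := List.mem_map.mp (hperm'.mem_iff.mp hp)
      simp only [okVal, decide_eq_true_eq]
      exact ⟨Sev.val_lt hS hm (hlmem χ hχ).2 ht1 (hvs χ),
        Int.emod_eq_zero_of_dvd (CfsgLib.SmallGroups.PrimeRational.four_dvd_deg_sub (Sev.linear_trivial hS hm) χ htt)⟩
    · rw [(hperm'.map _).sum_eq, hps0, List.map_map]
      show 1 + (l.map fun χ => sgOne (deg χ) * v χ).sum = 0
      rw [hsum, Finset.sum_congr rfl fun χ hχ => by rw [← (hsg χ (Finset.mem_of_mem_erase hχ)).2]]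
      have h := hsplit fun χ => σ χ * v χ
      rw [hσ1, hv1, hσθ, Finset.sum_congr rfl fun χ hχ => by rw [hσX χ hχ]] at h
      have he : ∑ χ ∈ B.X, B.s χ * v χ = B.ε * v θ := by
        rw [← hre, excVal, ← mul_assoc]
        rcases B.ε_sq with e | e <;> rw [e] <;> ring
      rw [he] at h
      linarith
    · rw [(hperm'.map _).sum_eq, hps0, List.map_map]
      show 1 + (l.map fun χ => v χ * v χ).sum ≤ _
      rw [hsum]
      have h := sum_val_sq_le B v (fun χ _ => hvs χ) _ (fun θ' h' => hr θ' h')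
      rw [B.card_Y, hre] at h
      have h2 := hsplit fun χ => v χ * v χ
      rw [hv1] at h2
      push_cast at h
      linarith
    · rw [(hperm'.map _).sum_eq, hps0, List.map_map]
      show _ = 7 * (1728 + (l.map fun χ => wOne (deg χ) * (v χ * v χ)).sum)
      rw [hsum]
      have h := formula B (by norm_num) hx v (fun χ _ => hvs χ) _ hr
      rw [hre, hcard] at h
      have h2 := hsplit fun χ => ((σ χ * v χ * v χ : ℤ) : ℚ) / deg χ
      rw [hσ1, hv1, hσθ, deg_irrOne, B.deg_Y θ hθY, Finset.sum_congr rfl fun χ hχ => by rw [hσX χ hχ]] at h2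
      have h3 : ∑ χ ∈ W', ((σ χ * v χ * v χ : ℤ) : ℚ) / deg χ =
          ((∑ χ ∈ W', wOne (deg χ) * (v χ * v χ) : ℤ) : ℚ) / 1728 := by
        rw [Int.cast_sum, Finset.sum_div]
        refine Finset.sum_congr rfl fun χ hχ => ?_
        obtain ⟨k, hk⟩ := hd1728 χ (hperm.mem_iff.mpr (Finset.mem_toList.mpr hχ))
        have hk0 : (deg χ : ℚ) ≠ 0 := by exact_mod_cast (deg_pos χ).ne'
        rw [wOne, (hsg χ (Finset.mem_of_mem_erase hχ)).2,
          show 1728 / deg χ = k by rw [hk, Nat.mul_div_cancel_left _ (deg_pos χ)],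
          show (1728 : ℚ) = (deg χ : ℚ) * k by exact_mod_cast hk]
        have : (k : ℚ) ≠ 0 := by
          intro e
          rw [show k = 0 by exact_mod_cast e, mul_zero] at hk
          norm_num at hk
        push_cast
        field_simp
      rw [h3] at h2
      have : (((Nat.card (centralizer ({t} : Set S)) : ℤ) * Nat.card (centralizer ({t} : Set S)) * pairs t x : ℤ) : ℚ) =
          ((7 * (1728 + ∑ χ ∈ W', wOne (deg χ) * (v χ * v χ)) : ℤ) : ℚ) := by
        push_cast at h h2 ⊢
        linear_combination h + 12096 * h2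
      exact_mod_cast this
  -- the inverting involution
  obtain ⟨z, hz, hzx, hz6, hzN⟩ := exists_inverting hS hx
  have hC := Sev.centralizer_eq hS hm hx
  have hKz : pairs z x = 7 := CfsgLib.SmallGroups.PrimeOrderChar.card_pairs hx (by norm_num) hC hzN hz
  obtain ⟨ps, hps, hord, hok, hlin, hq, heq⟩ := hinv z hz
  rw [hKz] at heq
  set c := Nat.card (centralizer ({z} : Set S)) with hc
  have hB : 1728 + (ps.map fun p => wOne p.1 * (p.2 * p.2)).sum = ((c * c : ℕ) : ℤ) := by
    push_cast at heq ⊢; linarith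
  have hcmem : c ∈ centsOne := by
    refine centsOne_mem c (Nat.mem_divisors.mpr ⟨hcard ▸ card_subgroup_dvd_card _, by norm_num⟩) (fun h => ?_)
      (Nat.mod_eq_zero_of_dvd hz6)
    exact Sev.not_seven_dvd_centralizer hS hm (fun e => by rw [e, orderOf_one] at hz; norm_num at hz)
      (by rw [hz]; norm_num) (Nat.dvd_of_mod_eq_zero h)
  have hfin : ∀ cs : List ℕ, finalFast cs (1728 + (ps.map fun p => wOne p.1 * (p.2 * p.2)).sum)
      (1 + (ps.map fun p => p.2 * p.2).sum) = true → c ∉ cs := by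
    intro cs h hmem
    simp only [finalFast, finalSq, List.all_eq_true, Bool.or_eq_true, bne_iff_ne, decide_eq_true_eq] at h
    have h36 : (1728 + (ps.map fun p => wOne p.1 * (p.2 * p.2)).sum) % 36 = 0 := by
      rw [hB]; exact_mod_cast centsOne_sq c hcmem
    rcases (h.resolve_left (by simp [h36])) c hmem with h' | h'
    · exact h' hB
    · linarith
  have hds' : l.map deg ∈ degSets := hds
  simp only [degSets, List.mem_cons, List.not_mem_nil, or_false] at hds'
  by_cases hlast : l.map deg = [8, 27, 27, 27, 36, 36]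
  · have hz' := noSol_sound finalLast ps 0 0 1 1728 1 hok (fun p hp e => by have := hok p hp; simp [okVal, e] at this) hord hlin (by rw [hps, hlast]; exact search_last)
    simp only [finalLast, Bool.and_eq_true] at hz'
    have h192 := hfin _ hz'.2
    have hz64 : ¬ 64 ∣ c := fun h => by
      have key : ∀ c ∈ centsOne, c % 64 = 0 → c ∈ [192, 576, 1728] := by decide +kernel
      exact h192 (key c hcmem (Nat.mod_eq_zero_of_dvd h))
    obtain ⟨u, hu, hu64⟩ := exists_central_invol hS
    have hnot : ¬ IsConj z u := fun h => hz64 (by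
      obtain ⟨g, hg⟩ := isConj_iff.mp h
      rw [hc, ← Subgroup.card_map_of_injective (f := (MulAut.conj g).toMonoidHom) (MulAut.conj g).injective]
      refine hu64.trans (card_dvd_of_le fun s hs => ⟨g⁻¹ * s * g, ?_, by simp [mul_assoc]⟩)
      rw [SetLike.mem_coe, mem_centralizer_singleton_iff]
      have hs' := mem_centralizer_singleton_iff.mp hs
      rw [← hg] at hs'
      calc g⁻¹ * s * g * z = g⁻¹ * (s * (g * z * g⁻¹)) * g := by group
        _ = z * (g⁻¹ * s * g) := by rw [hs']; group)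
    have hKu : pairs u x = 0 := by
      refine Nat.card_eq_zero.mpr (Or.inl ⟨fun q => hnot ?_⟩)
      exact CfsgLib.SmallGroups.PrimeOrderChar.isConj_of_pair hx (by norm_num) hC hzx
        (by rw [← pow_two, ← hz, pow_orderOf_eq_one]) (by rw [← pow_two, ← hu, pow_orderOf_eq_one]) q.2
    obtain ⟨ps', hps', hord', hok', hlin', hq', heq'⟩ := hinv u hu
    rw [hKu] at heq'
    have hu' := noSol_sound finalLast ps' 0 0 1 1728 1 hok' (fun p hp e => by have := hok' p hp; simp [okVal, e] at this) hord' hlin' (by rw [hps', hlast]; exact search_last)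
    simp only [finalLast, Bool.and_eq_true, bne_iff_ne] at hu'
    push_cast at heq'
    exact hu'.1 (by linarith)
  · have hmem : l.map deg ∈ [[6, 6, 6, 8, 27, 36], [6, 8, 8, 8, 8, 27], [6, 8, 8, 27, 48, 64],
        [6, 8, 27, 36, 36, 48], [8, 8, 27, 27, 27, 64]] := by
      simp only [List.mem_cons, List.not_mem_nil, or_false]
      tauto
    exact hfin _ (noSol_sound (finalFast centsOne) ps 0 0 1 1728 1 hok (fun p hp e => by have := hok p hp; simp [okVal, e] at this) hord hlin (by rw [hps]; exact search_first _ hmem)) hcmem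

end CfsgLib.GTwoTwoSpec
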