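import Cfsg.Agent.Lib.GTwoTwoSpec.Blocks
import Mathlib

/-!
The index of the simple subgroup is neither three nor six.
-/

set_option autoImplicit false
set_option linter.style.haveILetI false

noncomputable section

namespace CfsgLib.GTwoTwoSpec

open Subgroup CfsgLib.InvolChar CfsgLib.MTwentyTwoUnique Cfsg

set_option synthInstance.maxSize 8192 in
set_option synthInstance.maxHeartbeats 400000 in
/-- The degrees in the block of a group of order 4032. -/
theorem search_three_deg : ∀ d < 64, ∀ f < 37, 2 ≤ d → 2 ≤ f → 4032 % d = 0 → 4032 % f = 0 →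
    1 + d * d + 3 * (f * f) ≤ 4032 → ((d % 7 = 1 ∧ f = 1 + d ∧ f % 7 = 2) ∨ (d % 7 = 6 ∧ d = 1 + f ∧ f % 7 = 5)) →
    d = 8 ∧ f = 9 := by
  decide +kernel

theorem search_three_val : ∀ a < 8, ∀ c < 192, 0 < c → c * c ≠ 8 * (a * a) ∧ c * c ≠ 8 * ((a + 8) * (a + 8)) := by
  decide +kernel

attribute [local instance] Classical.propDecidable

variable {S : Type*} [Group S] [Fintype S]

/-- The non-exceptional part is the trivial character and `k` others. -/
theorem irrOne_mem {m : ℕ} (hS : Sev S m) (hm : m ∣ 6) {e : ℕ} (B : SC S 7 e) (he : 2 ≤ (7 - 1) / e)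
    {x : S} (hx : orderOf x = 7) :
    CfsgLib.Char.irrOne ∈ B.X ∧ B.s CfsgLib.Char.irrOne = 1 := by
  have hX : CfsgLib.Char.irrOne ∈ B.X := by
    refine (Finset.mem_union.mp B.one_mem).resolve_right fun h => ?_
    obtain ⟨θ, hθ, hne⟩ := Finset.exists_mem_ne (s := B.Y) (by rw [B.card_Y]; omega) CfsgLib.Char.irrOne
    have h1 := B.deg_Y _ h
    have h2 := Sev.two_le_deg hS hm hne
    rw [B.deg_Y θ hθ, ← h1, deg_irrOne] at h2
    norm_num at h2
  refine ⟨hX, ?_⟩
  have h := B.val_X _ hX x hx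
  rw [CfsgLib.Char.irrOne_apply] at h
  exact_mod_cast h.symm

theorem not_index_six (hS : Sev S 6) : False := by
  haveI : Fact (Nat.Prime 7) := ⟨by norm_num⟩
  obtain ⟨x, hx⟩ := Sev.exists_seven hS dvd_rfl
  obtain ⟨B⟩ := Sev.exists_sc hS dvd_rfl 1 (by norm_num)
  obtain ⟨h1, hs⟩ := irrOne_mem hS dvd_rfl B (by norm_num) hx
  obtain ⟨θ, hθ⟩ := B.Y_ne
  have hX : B.X = {CfsgLib.Char.irrOne} := by
    obtain ⟨a, ha⟩ := Finset.card_eq_one.mp B.card_X
    rw [ha, Finset.mem_singleton] at h1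
    rw [ha, h1]
  have h := B.deg_rel hθ (by norm_num)
  rw [hX, Finset.sum_singleton, hs, deg_irrOne] at h
  have hne : θ ≠ CfsgLib.Char.irrOne := fun e => Finset.disjoint_left.mp B.disj h1 (e ▸ hθ)
  have h2 := Sev.two_le_deg hS dvd_rfl hne
  rw [B.deg_Y θ hθ] at h2
  rcases B.ε_sq with e | e <;> rw [e] at h <;> omega

theorem not_index_three (hS : Sev S 3) : False := by
  have hm : 3 ∣ 6 := by norm_num
  haveI : Fact (Nat.Prime 7) := ⟨by norm_num⟩
  obtain ⟨x, hx⟩ := Sev.exists_seven hS hm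
  obtain ⟨B⟩ := Sev.exists_sc hS hm 2 (by norm_num)
  obtain ⟨h1, hs1⟩ := irrOne_mem hS hm B (by norm_num) hx
  obtain ⟨χ, hχX, hχ1⟩ : ∃ χ ∈ B.X, χ ≠ CfsgLib.Char.irrOne :=
    Finset.exists_mem_ne (by rw [B.card_X]; norm_num) _
  have hX : B.X = {CfsgLib.Char.irrOne, χ} :=
    (Finset.eq_of_subset_of_card_le (by
      simp [Finset.insert_subset_iff, h1, hχX]) (by rw [B.card_X, Finset.card_pair hχ1.symm])).symm
  obtain ⟨θ, hθ⟩ := B.Y_ne
  have hθ1 : θ ≠ CfsgLib.Char.irrOne := fun e => Finset.disjoint_left.mp B.disj h1 (e ▸ hθ)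
  have hrel := B.deg_rel hθ (by norm_num)
  rw [hX, Finset.sum_pair hχ1.symm, hs1, deg_irrOne] at hrel
  have hsq := sum_deg_sq_le B
  rw [hX, Finset.sum_pair hχ1.symm, deg_irrOne, B.card_Y] at hsq
  have hS' : Nat.card S = 4032 := by have := hS.card; omega
  rw [hS'] at hsq
  norm_num at hsq
  have hd2 := Sev.two_le_deg hS hm hχ1
  have hf2 := B.deg_Y θ hθ ▸ Sev.two_le_deg hS hm hθ1
  have hdd : 4032 % deg χ = 0 := Nat.mod_eq_zero_of_dvd (by simpa using Sev.deg_dvd hS hm χ)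
  have hff : 4032 % B.f = 0 := Nat.mod_eq_zero_of_dvd (by simpa [B.deg_Y θ hθ] using Sev.deg_dvd hS hm θ)
  have hsq' : 1 + deg χ * deg χ + 3 * (B.f * B.f) ≤ 4032 := by
    have : ((1 + deg χ * deg χ + 3 * (B.f * B.f) : ℕ) : ℤ) ≤ ((4032 : ℕ) : ℤ) := by
      push_cast; linarith
    exact_mod_cast this
  have hd64 : deg χ < 64 := by nlinarith
  have hf37 : B.f < 37 := by nlinarith
  have hdeg := B.deg_X χ hχX
  have hdf := B.deg_f
  rcases B.s_sq χ hχX with hs | hs <;> rcases B.ε_sq with hε | hε <;> rw [hs, hε] at hrel <;>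
    rw [hs] at hdeg <;> rw [hε] at hdf <;> push_cast at hrel hdeg hdf
  -- only `(8, 9)` remains
  all_goals try omega
  all_goals
    obtain ⟨hd8, hf9⟩ := search_three_deg _ hd64 _ hf37 hd2 hf2 hdd hff hsq' (by omega)
    first
      | omega
      | skip
  -- the values at an inverting involution
  haveI : Fact (Nat.Prime 2) := ⟨Nat.prime_two⟩
  have hN : Nat.card (normalizer ((zpowers x : Subgroup S) : Set S)) = 14 := by
    have := (hS.seven x hx).2; omega
  obtain ⟨z, hz⟩ := exists_prime_orderOf_dvd_card' (G := normalizer ((zpowers x : Subgroup S) : Set S)) 2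
    (by rw [hN]; norm_num)
  have hzG : orderOf (z : S) = 2 := by rw [Subgroup.orderOf_coe, hz]
  have hzz : (z : S) * z = 1 := by rw [← pow_two, ← hzG, pow_orderOf_eq_one]
  have hC := Sev.centralizer_eq hS hm hx
  have hK : pairs (z : S) x = 7 :=
    CfsgLib.SmallGroups.PrimeOrderChar.card_pairs hx (by norm_num) hC z.2 hzG
  have hv : ∀ ψ ∈ B.X, (ψ : S → ℂ) (z : S) = ((intVal ψ hzz : ℤ) : ℂ) := fun ψ _ => intVal_spec ψ hzz
  have hr := val_Y B (t := (z : S)) (by rw [hzG]; norm_num) (fun ψ => intVal ψ hzz) hv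
  have hform := formula B (by norm_num) hx _ hv _ hr
  rw [hX, Finset.sum_pair hχ1.symm, hs1, hs, hε, hd8, hf9, deg_irrOne, hK, hS'] at hform
  rw [intVal_irrOne] at hform
  simp only [excVal, hX, Finset.sum_pair hχ1.symm, hs1, hs, hε, intVal_irrOne] at hform
  set a := intVal χ hzz with ha
  set c := Nat.card (centralizer ({(z : S)} : Set S)) with hc
  push_cast at hform
  have e : ((c * c : ℕ) : ℚ) = ((8 * ((a - 8) * (a - 8)) : ℤ) : ℚ) := by
    push_cast; linear_combination hform / 7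
  have e' : ((c * c : ℕ) : ℤ) = 8 * ((a - 8) * (a - 8)) := by exact_mod_cast e
  have hlt : a.natAbs < 8 := hd8 ▸ Sev.val_lt hS hm hχ1 (fun h => by rw [h, orderOf_one] at hzG; norm_num at hzG)
    (intVal_spec χ hzz)
  have hcpos : 0 < c := Nat.card_pos
  have hc192 : c < 192 := by
    have h15 : (8 - a) * (8 - a) ≤ 15 * 15 := mul_le_mul (by omega) (by omega) (by omega) (by norm_num)
    have : ((c * c : ℕ) : ℤ) < ((192 * 192 : ℕ) : ℤ) := by rw [e']; push_cast; nlinarith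
    have : c * c < 192 * 192 := by exact_mod_cast this
    nlinarith
  obtain ⟨k, hk⟩ : ∃ k : ℕ, (8 : ℤ) - a = k := ⟨(8 - a).toNat, (Int.toNat_of_nonneg (by omega)).symm⟩
  have e'' : c * c = 8 * (k * k) := by
    have : ((c * c : ℕ) : ℤ) = ((8 * (k * k) : ℕ) : ℤ) := by rw [e']; push_cast; rw [← hk]; ring
    exact_mod_cast this
  rcases lt_or_ge k 8 with hk8 | hk8
  · exact (search_three_val k hk8 c hc192 hcpos).1 e''
  · obtain ⟨j, rfl⟩ : ∃ j, k = j + 8 := ⟨k - 8, by omega⟩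
    exact (search_three_val j (by omega) c hc192 hcpos).2 e''

end CfsgLib.GTwoTwoSpec
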