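import Mathlib

/-!
The finite searches for the simple group of order 6048.
-/

set_option autoImplicit false

namespace CfsgLib.GTwoTwoSpec

/-- The sign of a degree congruent to `±1` modulo seven. -/
def sg (d : ℕ) : ℤ := if d % 7 = 1 then 1 else -1

/-- The signed total of the non-exceptional degrees. -/
def totTwo (a b : ℕ) : ℤ := 1 + sg a * a + sg b * b

/-- The conditions on the degrees. -/
def validTwo (a b : ℕ) : Bool :=
  let f := (totTwo a b).natAbs
  decide (2 ≤ f ∧ 6048 % f = 0 ∧ (f : ℤ) % 7 = (if 0 < totTwo a b then 3 else -3) % 7 ∧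
    1 + a * a + b * b + 2 * (f * f) ≤ 6048)

/-- The candidates for a non-exceptional degree. -/
def candTwo : List ℕ := (List.range 78).filter fun d =>
  decide (2 ≤ d ∧ 6048 % d = 0 ∧ (d % 7 = 1 ∨ d % 7 = 6))

theorem candTwo_mem {d : ℕ} (h : d < 78) (h1 : 2 ≤ d) (h2 : 6048 % d = 0) (h3 : d % 7 = 1 ∨ d % 7 = 6) :
    d ∈ candTwo :=
  List.mem_filter.mpr ⟨List.mem_range.mpr h, by simp [h1, h2, h3]⟩

set_option synthInstance.maxSize 8192 in
set_option synthInstance.maxHeartbeats 400000 in
set_option maxRecDepth 8000 in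
theorem search_two : ∀ a ∈ candTwo, ∀ b ∈ candTwo, a ≤ b → validTwo a b = true →
    (a, b) ∈ [(6, 8), (6, 27), (8, 27)] := by
  decide +kernel

/-- The value of the class sum on the degrees `(8, 27, 18)`. -/
def numEight (a : ℤ) : ℤ := 864 + 108 * (a * a) + 48 * ((1 + a) * (1 + a))

/-- The value of the class sum on the degrees `(6, 27, 32)`. -/
def numSix (a : ℤ) : ℤ := 864 - 144 * (a * a) + 27 * ((a - 1) * (a - 1))

theorem search_eight : ∀ i : ℕ, i < 15 → ((i : ℤ) - 7 - 8) % 3 = 0 → numEight ((i : ℤ) - 7) % 729 ≠ 0 := by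
  decide +kernel

theorem search_six : ∀ c < 30, 891 % (c * c) = 0 → c % 9 = 0 → c = 9 := by decide +kernel

end CfsgLib.GTwoTwoSpec
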