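import Cfsg.Agent.Lib.GTwoTwoSpec.CaseThree
import Cfsg.Agent.Lib.GTwoTwoSpec.CaseTwoSearch
import Mathlib

/-!
The simple group of order 6048: the Sylow 3-subgroups are non-abelian with centre of order three and
a non-central element has centraliser of order nine.
-/

set_option autoImplicit false
set_option linter.style.haveILetI false
set_option linter.unusedSectionVars false

noncomputable section

namespace CfsgLib.GTwoTwoSpec

open Subgroup CfsgLib.InvolChar CfsgLib.MTwentyTwoUnique Cfsg
attribute [local instance] Classical.propDecidable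

/-- The facts at the prime three. -/
structure Three (S : Type*) [Group S] : Prop where
  card : Nat.card S = 6048
  simple : IsSimpleGroup S
  order : ∀ P : Sylow 3 S, ∀ t ∈ (P : Subgroup S), t ≠ 1 → orderOf t = 3
  seven : ∀ t : S, orderOf t = 3 → ¬ 7 ∣ Nat.card (centralizer ({t} : Set S))
  center : ∀ P : Sylow 3 S, Nat.card (Subgroup.center (P : Subgroup S)) = 3
  noncentral : ∀ P : Sylow 3 S, ∀ t : (P : Subgroup S), t ∉ Subgroup.center (P : Subgroup S) →
    Nat.card (centralizer ({(t : S)} : Set S)) = 9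

variable {S : Type*} [Group S] [Fintype S]

theorem card_sylow_three (h : Nat.card S = 6048) (P : Sylow 3 S) : Nat.card (P : Subgroup S) = 27 := by
  haveI : Fact (Nat.Prime 3) := ⟨Nat.prime_three⟩
  simpa using CfsgLib.SmallGroups.card_sylow_eq (show Nat.card S = 3 ^ 3 * 224 by rw [h]; norm_num)
    (by norm_num) P

theorem order_three (h : Nat.card S = 6048) (h9 : ∀ g : S, orderOf g ≠ 9) (P : Sylow 3 S) {t : S}
    (ht : t ∈ (P : Subgroup S)) (h1 : t ≠ 1) : orderOf t = 3 := by
  have hd := Subgroup.orderOf_dvd_natCard _ ht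
  rw [card_sylow_three h P] at hd
  have : orderOf t ∈ Nat.divisors 27 := Nat.mem_divisors.mpr ⟨hd, by norm_num⟩
  rw [show Nat.divisors 27 = {1, 3, 9, 27} by decide +kernel] at this
  simp only [Finset.mem_insert, Finset.mem_singleton] at this
  rcases this with e | e | e | e
  · exact absurd (orderOf_eq_one_iff.mp e) h1
  · exact e
  · exact absurd e (h9 t)
  · exact absurd (by rw [orderOf_pow, e]; norm_num) (h9 (t ^ 3))

/-- The restriction to a Sylow 3-subgroup contains the trivial character a natural number of times. -/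
theorem sum_sylow (h : Nat.card S = 6048) (P : Sylow 3 S) (χ : IrrCharacter S) :
    ∃ k : ℕ, ∑ u : (P : Subgroup S), (χ : S → ℂ) u = 27 * (k : ℂ) := by
  obtain ⟨k, hk⟩ := CfsgLib.Char.classInner_char_nat
    (CfsgLib.Char.isCharacter_res (P : Subgroup S) (CfsgLib.Char.isCharacter_of_isIrr χ.2))
    CfsgLib.Char.isCharacter_one
  refine ⟨k, ?_⟩
  rw [CfsgLib.Char.classInner_def, card_sylow_three h P] at hk
  simp only [map_one, mul_one] at hk
  rw [inv_mul_eq_iff_eq_mul₀ (by norm_num)] at hk
  exact_mod_cast hk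

/-- The centraliser of a central element of a Sylow 3-subgroup. -/
theorem dvd_centralizer_of_central (h : Nat.card S = 6048) (P : Sylow 3 S) {t : (P : Subgroup S)}
    (ht : t ∈ Subgroup.center (P : Subgroup S)) : 27 ∣ Nat.card (centralizer ({(t : S)} : Set S)) := by
  rw [← card_sylow_three h P]
  exact card_dvd_of_le fun s hs => mem_centralizer_singleton_iff.mpr
    (congrArg Subtype.val (Subgroup.mem_center_iff.mp ht ⟨s, hs⟩))

theorem center_nontrivial (h : Nat.card S = 6048) (P : Sylow 3 S) :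
    ∃ t ∈ Subgroup.center (P : Subgroup S), t ≠ 1 := by
  haveI : Fact (Nat.Prime 3) := ⟨Nat.prime_three⟩
  haveI : Nontrivial (P : Subgroup S) := Finite.one_lt_card_iff_nontrivial.mp (by rw [card_sylow_three h P]; norm_num)
  haveI := P.2.center_nontrivial
  obtain ⟨z, hz⟩ := exists_ne (1 : Subgroup.center (P : Subgroup S))
  exact ⟨z, z.2, fun e => hz (Subtype.ext e)⟩

set_option maxHeartbeats 1600000 in
theorem three_local (hS : Sev S 2) : Three S := by
  have hm : 2 ∣ 6 := by norm_num
  haveI : Fact (Nat.Prime 7) := ⟨by norm_num⟩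
  haveI : Fact (Nat.Prime 3) := ⟨Nat.prime_three⟩
  have hcard : Nat.card S = 6048 := by have := hS.card; omega
  obtain ⟨x, hx⟩ := Sev.exists_seven hS hm
  obtain ⟨B⟩ := Sev.exists_sc hS hm 3 (by norm_num)
  obtain ⟨h1, hs1⟩ := irrOne_mem hS hm B (by norm_num) hx
  obtain ⟨χ₁, χ₂, hne, hE, hle⟩ : ∃ χ₁ χ₂, χ₁ ≠ χ₂ ∧ B.X.erase CfsgLib.Char.irrOne = {χ₁, χ₂} ∧
      deg χ₁ ≤ deg χ₂ := by
    obtain ⟨a, b, hab, hE⟩ := Finset.card_eq_two.mp
      (show (B.X.erase CfsgLib.Char.irrOne).card = 2 by rw [Finset.card_erase_of_mem h1, B.card_X])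
    rcases le_total (deg a) (deg b) with h | h
    · exact ⟨a, b, hab, hE, h⟩
    · exact ⟨b, a, hab.symm, by rw [hE, Finset.pair_comm], h⟩
  have hmem : ∀ χ, χ ∈ B.X ↔ χ = CfsgLib.Char.irrOne ∨ χ = χ₁ ∨ χ = χ₂ := by
    intro χ
    rw [← Finset.insert_erase h1, hE]
    simp
  have hne1 : χ₁ ≠ CfsgLib.Char.irrOne ∧ χ₂ ≠ CfsgLib.Char.irrOne :=
    ⟨Finset.ne_of_mem_erase (a := CfsgLib.Char.irrOne) (s := B.X) (by rw [hE]; simp),
      Finset.ne_of_mem_erase (a := CfsgLib.Char.irrOne) (s := B.X) (by rw [hE]; simp)⟩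
  have hsum : ∀ {M : Type} [AddCommMonoid M] (F : IrrCharacter S → M),
      ∑ χ ∈ B.X, F χ = F CfsgLib.Char.irrOne + (F χ₁ + F χ₂) := fun F => by
    rw [← Finset.insert_erase h1, Finset.sum_insert (Finset.notMem_erase _ _), hE, Finset.sum_pair hne]
  obtain ⟨θ, hθ⟩ := B.Y_ne
  have hθ1 : θ ≠ CfsgLib.Char.irrOne := fun e => Finset.disjoint_left.mp B.disj h1 (e ▸ hθ)
  have hX1 : χ₁ ∈ B.X := (hmem _).mpr (Or.inr (Or.inl rfl))
  have hX2 : χ₂ ∈ B.X := (hmem _).mpr (Or.inr (Or.inr rfl))
  have hrel := B.deg_rel hθ (by norm_num)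
  rw [hsum, hs1, deg_irrOne] at hrel
  have hsq := sum_deg_sq_le B
  rw [hsum, deg_irrOne, B.card_Y, hcard] at hsq
  norm_num at hsq
  have hd1 := Sev.two_le_deg hS hm hne1.1
  have hd2 := Sev.two_le_deg hS hm hne1.2
  have hf2 := B.deg_Y θ hθ ▸ Sev.two_le_deg hS hm hθ1
  have hdd : ∀ χ : IrrCharacter S, 6048 % deg χ = 0 := fun χ =>
    Nat.mod_eq_zero_of_dvd (by simpa using Sev.deg_dvd hS hm χ)
  have hsq' : 1 + deg χ₁ * deg χ₁ + deg χ₂ * deg χ₂ + 2 * (B.f * B.f) ≤ 6048 := by
    have : ((1 + deg χ₁ * deg χ₁ + deg χ₂ * deg χ₂ + 2 * (B.f * B.f) : ℕ) : ℤ) ≤ ((6048 : ℕ) : ℤ) := by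
      push_cast; linarith
    exact_mod_cast this
  have hsg : ∀ χ ∈ B.X, χ ≠ CfsgLib.Char.irrOne →
      (deg χ % 7 = 1 ∨ deg χ % 7 = 6) ∧ B.s χ = sg (deg χ) := by
    intro χ hχ _
    have h := B.deg_X χ hχ
    rcases B.s_sq χ hχ with e | e <;> rw [e] at h ⊢ <;> push_cast at h
    · have : deg χ % 7 = 1 := by omega
      exact ⟨Or.inl this, by simp [sg, this]⟩
    · have : deg χ % 7 = 6 := by omega
      exact ⟨Or.inr this, by simp [sg, this]⟩
  obtain ⟨hr1, hσ1⟩ := hsg χ₁ hX1 hne1.1
  obtain ⟨hr2, hσ2⟩ := hsg χ₂ hX2 hne1.2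
  rw [hσ1, hσ2] at hrel
  have hT : totTwo (deg χ₁) (deg χ₂) = B.ε * B.f := by rw [hrel, totTwo]; push_cast; ring
  have hTabs : (totTwo (deg χ₁) (deg χ₂)).natAbs = B.f := by
    rcases B.ε_sq with e | e <;> rw [hT, e] <;> simp
  have hvalid : validTwo (deg χ₁) (deg χ₂) = true := by
    simp only [validTwo, decide_eq_true_eq, hTabs]
    refine ⟨hf2, (B.deg_Y θ hθ) ▸ hdd θ, ?_, hsq'⟩
    have hdf := B.deg_f
    rcases B.ε_sq with e | e <;> rw [e] at hdf <;> push_cast at hdf <;> rw [hT, e]
    · rw [if_pos (by omega)]; omega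
    · rw [if_neg (by omega)]; omega
  have hlt : ∀ d : ℕ, d * d ≤ 6048 → d < 78 := fun d h => by nlinarith
  have hthree := search_two _ (candTwo_mem (hlt _ (by omega)) hd1 (hdd _) hr1)
    _ (candTwo_mem (hlt _ (by omega)) hd2 (hdd _) hr2) hle hvalid
  simp only [List.mem_cons, Prod.mk.injEq, List.not_mem_nil, or_false] at hthree
  -- values at elements of order three
  have huniq : ∀ χ ∈ B.X, deg χ ≠ B.f ∧ ∀ χ' ∈ B.X, deg χ' = deg χ → χ' = χ := by
    have hdeg : deg χ₁ ≠ deg χ₂ ∧ deg χ₁ ≠ B.f ∧ deg χ₂ ≠ B.f := by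
      rw [← hTabs]
      rcases hthree with ⟨e1, e2⟩ | ⟨e1, e2⟩ | ⟨e1, e2⟩ <;> rw [e1, e2] <;> decide +kernel
    intro χ hχ
    have h11 := deg_irrOne (G := S)
    refine ⟨?_, fun χ' hχ' he => ?_⟩
    · rcases (hmem χ).mp hχ with rfl | rfl | rfl <;> omega
    · rcases (hmem χ).mp hχ with rfl | rfl | rfl <;> rcases (hmem χ').mp hχ' with rfl | rfl | rfl <;>
        first | rfl | omega
  have hvals : ∀ t : S, orderOf t = 3 → ∃ a b r : ℤ,
      (χ₁ : S → ℂ) t = (a : ℂ) ∧ (χ₂ : S → ℂ) t = (b : ℂ) ∧ (θ : S → ℂ) t = (r : ℂ) ∧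
      a.natAbs < deg χ₁ ∧ r.natAbs < B.f ∧ (3 : ℤ) ∣ (deg χ₁ : ℤ) - a ∧ (3 : ℤ) ∣ (deg χ₂ : ℤ) - b ∧
      B.ε * r = 1 + sg (deg χ₁) * a + sg (deg χ₂) * b ∧
      1 + a * a + b * b + 2 * (r * r) ≤ (Nat.card (centralizer ({t} : Set S)) : ℤ) ∧
      ∃ k : ℕ, ((Nat.card (centralizer ({t} : Set S)) : ℚ) * Nat.card (centralizer ({t} : Set S))) * k =
        864 * (1 + (sg (deg χ₁) : ℚ) * a * a / deg χ₁ + (sg (deg χ₂) : ℚ) * b * b / deg χ₂ -
          (B.ε : ℚ) * r * r / B.f) := by
    intro t ht
    obtain ⟨v, hv⟩ := exists_vals_three B hx ht huniq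
    have ht7 : ¬ 7 ∣ orderOf t := by rw [ht]; norm_num
    have ht1 : t ≠ 1 := fun e => by rw [e, orderOf_one] at ht; norm_num at ht
    have hr := val_Y B ht7 v (fun χ hχ => (hv χ hχ).1)
    have hv1 : v CfsgLib.Char.irrOne = 1 := by
      have h := (hv _ h1).1
      rw [CfsgLib.Char.irrOne_apply] at h
      exact_mod_cast h.symm
    have hb := sum_val_sq_le B v (fun χ hχ => (hv χ hχ).1) _ hr
    rw [hsum, hv1, B.card_Y] at hb
    have hf := formula B (by norm_num) hx v (fun χ hχ => (hv χ hχ).1) _ hr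
    rw [hsum, hv1, hs1, hσ1, hσ2, deg_irrOne, hcard] at hf
    refine ⟨v χ₁, v χ₂, excVal B v, (hv χ₁ hX1).1, (hv χ₂ hX2).1, hr θ hθ,
      Sev.val_lt hS hm hne1.1 ht1 (hv χ₁ hX1).1, (B.deg_Y θ hθ) ▸ Sev.val_lt hS hm hθ1 ht1 (hr θ hθ),
      (hv χ₁ hX1).2, (hv χ₂ hX2).2, ?_, ?_, ?_⟩
    · rw [excVal, hsum, hs1, hv1, hσ1, hσ2]
      rcases B.ε_sq with e | e <;> rw [e] <;> ring
    · norm_num [-Nat.card_eq_fintype_card] at hb; linarith
    · obtain ⟨k, hk⟩ := seven_dvd_pairs hS hm hx ht1 ht7
      refine ⟨k, ?_⟩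
      rw [hk] at hf
      push_cast at hf
      linear_combination hf / 7
  have hzero : deg χ₂ = 27 → ∀ t : S, orderOf t = 3 → (χ₂ : S → ℂ) t = 0 := fun e t ht =>
    CfsgLib.Char.vanish_of_defect_zero χ₂.2 (p := 3) (n := 3) Nat.prime_three
      (by rw [hcard]; norm_num) (by rw [hcard]; norm_num) (deg_spec χ₂) (by rw [e]; norm_num)
      (by rw [ht])
  obtain ⟨P0⟩ : Nonempty (Sylow 3 S) := inferInstance
  rcases hthree with ⟨e1, e2⟩ | ⟨e1, e2⟩ | ⟨e1, e2⟩
  · -- degrees 6, 8, 3: the faithful character of degree three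
    exfalso
    have hf : B.f = 3 := by rw [← hTabs, e1, e2]; rfl
    have hθz : ∀ t ∈ (P0 : Subgroup S), t ≠ 1 → (θ : S → ℂ) t = 0 := by
      intro t htP ht1
      obtain ⟨a, b, r, -, -, hr, -, hlt', ha, hb, hrel', -⟩ := hvals t (order_three hcard hS.no9 P0 htP ht1)
      rw [hf] at hlt'
      rw [e1, e2] at hrel'
      simp only [sg] at hrel'
      norm_num at hrel'
      rw [e1] at ha
      rw [e2] at hb
      push_cast at ha hb
      have : r = 0 := by rcases B.ε_sq with k | k <;> rw [k] at hrel' <;> omega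
      rw [hr, this, Int.cast_zero]
    obtain ⟨k, hk⟩ := sum_sylow hcard P0 θ
    rw [Fintype.sum_eq_single (1 : (P0 : Subgroup S)) fun u hu =>
      hθz u u.2 fun e => hu (Subtype.ext e)] at hk
    rw [OneMemClass.coe_one, deg_spec, B.deg_Y θ hθ, hf] at hk
    have : 3 = 27 * k := by exact_mod_cast hk
    omega
  · -- degrees 6, 27, 32
    have hf : B.f = 32 := by rw [← hTabs, e1, e2]; rfl
    have hε : B.ε = -1 := by
      rw [e1, e2] at hT
      rcases B.ε_sq with k | k
      · rw [k, hf] at hT; exact absurd hT (by decide +kernel)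
      · exact k
    have hd : ∀ t : S, orderOf t = 3 → ∃ a : ℤ, (χ₁ : S → ℂ) t = (a : ℂ) ∧
        ((a = 0 ∧ Nat.card (centralizer ({t} : Set S)) * Nat.card (centralizer ({t} : Set S)) ∣ 891) ∨
          (a = -3 ∧ 42 ≤ Nat.card (centralizer ({t} : Set S)))) := by
      intro t ht
      obtain ⟨a, b, r, ha, hb, -, hlt', -, ha3, -, hrel', hbd, k, hk⟩ := hvals t ht
      have hb0 : b = 0 := by
        rw [hzero e2 t ht] at hb
        exact_mod_cast hb.symm
      rw [hε, e1, e2, hb0] at hrel'
      simp only [sg] at hrel'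
      norm_num at hrel'
      have hra : r = a - 1 := by omega
      rw [hε, e1, e2, hf, hb0, hra] at hk
      rw [hb0, hra] at hbd
      simp only [sg] at hk
      norm_num [-Nat.card_eq_fintype_card] at hk
      set c := Nat.card (centralizer ({t} : Set S))
      have hk' : ((c * c * k : ℕ) : ℤ) = numSix a := by
        have : ((c * c * k : ℕ) : ℚ) = ((numSix a : ℤ) : ℚ) := by
          rw [numSix]; push_cast; linear_combination hk
        exact_mod_cast this
      rw [e1] at hlt' ha3
      push_cast at ha3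
      refine ⟨a, ha, ?_⟩
      have h0 : (0 : ℤ) ≤ ((c * c * k : ℕ) : ℤ) := Int.natCast_nonneg _
      obtain rfl | rfl | rfl : a = -3 ∨ a = 0 ∨ a = 3 := by omega
      · refine Or.inr ⟨rfl, ?_⟩
        norm_num [-Nat.card_eq_fintype_card] at hbd
        omega
      · refine Or.inl ⟨rfl, k, ?_⟩
        have : ((891 : ℕ) : ℤ) = ((c * c * k : ℕ) : ℤ) := by rw [hk', numSix]; norm_num
        exact_mod_cast this
      · rw [hk'] at h0
        exact absurd h0 (by decide +kernel)
    have hcen : ∀ P : Sylow 3 S, ∀ u : (P : Subgroup S), u ∈ Subgroup.center (P : Subgroup S) → u ≠ 1 →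
        (χ₁ : S → ℂ) u = -3 := by
      intro P u hu hu1
      obtain ⟨a, ha, h | h⟩ := hd u (order_three hcard hS.no9 P u.2 fun e => hu1 (Subtype.ext e))
      · exfalso
        have h' := (mul_dvd_mul (dvd_centralizer_of_central hcard P hu)
          (dvd_centralizer_of_central hcard P hu)).trans h.2
        norm_num at h'
      · rw [ha, h.1]; norm_num
    have hcount : ∀ P : Sylow 3 S,
        ((Finset.univ.filter fun u : (P : Subgroup S) => u ≠ 1 ∧ (χ₁ : S → ℂ) u = -3).card) ≤ 2 := by
      intro P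
      obtain ⟨k, hk⟩ := sum_sylow hcard P χ₁
      have hv : ∀ u : (P : Subgroup S), u ≠ 1 → (χ₁ : S → ℂ) u =
          if u ≠ 1 ∧ (χ₁ : S → ℂ) u = -3 then -3 else 0 := by
        intro u hu
        obtain ⟨a, ha, h | h⟩ := hd u (order_three hcard hS.no9 P u.2 fun e => hu (Subtype.ext e))
        · rw [ha, h.1, if_neg]
          · norm_num
          · rintro ⟨-, h'⟩; norm_num at h'
        · rw [ha, h.1, if_pos ⟨hu, by norm_num⟩]; norm_num
      rw [← Finset.add_sum_erase _ _ (Finset.mem_univ (1 : (P : Subgroup S))),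
        Finset.sum_congr rfl fun u hu => hv u (Finset.ne_of_mem_erase hu), OneMemClass.coe_one, deg_spec, e1,
        Finset.sum_ite, Finset.sum_const_zero, add_zero, Finset.sum_const, nsmul_eq_mul,
        show ((Finset.univ.erase (1 : (P : Subgroup S))).filter fun u : (P : Subgroup S) => u ≠ 1 ∧ (χ₁ : S → ℂ) u = -3) =
          (Finset.univ.filter fun u : (P : Subgroup S) => u ≠ 1 ∧ (χ₁ : S → ℂ) u = -3) by
            ext u; simp] at hk
      set n := (Finset.univ.filter fun u : (P : Subgroup S) => u ≠ 1 ∧ (χ₁ : S → ℂ) u = -3).card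
      have hn : ((6 : ℤ) - 3 * n) = 27 * k := by
        have : (((6 : ℤ) - 3 * n : ℤ) : ℂ) = ((27 * k : ℤ) : ℂ) := by push_cast; linear_combination hk
        exact_mod_cast this
      omega
    refine ⟨hcard, hS.simple, fun P t ht h1' => order_three hcard hS.no9 P ht h1',
      fun t ht => Sev.not_seven_dvd_centralizer hS hm (fun e => by rw [e, orderOf_one] at ht; norm_num at ht)
        (by rw [ht]; norm_num), ?_, ?_⟩
    · intro P
      have hd' : Nat.card (Subgroup.center (P : Subgroup S)) ∣ 27 :=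
        (card_subgroup_dvd_card _).trans (dvd_of_eq (card_sylow_three hcard P))
      obtain ⟨z, hz, hz1⟩ := center_nontrivial hcard P
      have hle' : Nat.card (Subgroup.center (P : Subgroup S)) ≤ 3 := by
        have h := Finset.card_le_card (s := (Finset.univ.filter fun u : (P : Subgroup S) =>
            u ∈ Subgroup.center (P : Subgroup S)).erase 1)
          (t := Finset.univ.filter fun u : (P : Subgroup S) => u ≠ 1 ∧ (χ₁ : S → ℂ) u = -3) fun u hu => by
            simp only [Finset.mem_erase, Finset.mem_filter, Finset.mem_univ, true_and] at hu ⊢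
            exact ⟨hu.1, hcen P u hu.2 hu.1⟩
        have h2 := h.trans (hcount P)
        rw [Finset.card_erase_of_mem (by simp), ← Fintype.card_subtype, ← Nat.card_eq_fintype_card] at h2
        omega
      have h3 : 2 ≤ Nat.card (Subgroup.center (P : Subgroup S)) := by
        haveI : Nontrivial (Subgroup.center (P : Subgroup S)) :=
          ⟨⟨⟨z, hz⟩, 1, fun e => hz1 (congrArg Subtype.val e)⟩⟩
        exact Finite.one_lt_card
      have := Nat.le_of_dvd (by norm_num) hd'
      interval_cases h : Nat.card (Subgroup.center (P : Subgroup S))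
      · norm_num at hd'
      · rfl
    · intro P t ht
      have ht1 : t ≠ 1 := fun e => ht (e ▸ one_mem _)
      have ht3 := order_three hcard hS.no9 P t.2 fun e => ht1 (Subtype.ext e)
      obtain ⟨a, ha, h | h⟩ := hd t ht3
      · -- the centraliser has order a multiple of nine
        set Z := (Subgroup.center (P : Subgroup S))
        have h9 : 9 ∣ Nat.card (centralizer ({(t : S)} : Set S)) := by
          obtain ⟨z, hz, hz1⟩ := center_nontrivial hcard P
          set U : Subgroup (P : Subgroup S) := centralizer ({t} : Set (P : Subgroup S))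
          have hzt : z ∈ U := mem_centralizer_singleton_iff.mpr (Subgroup.mem_center_iff.mp hz t).symm
          have htt : t ∈ U := mem_centralizer_singleton_iff.mpr rfl
          have hU : Nat.card U ∣ 27 := (card_subgroup_dvd_card _).trans (dvd_of_eq (card_sylow_three hcard P))
          have hUne : zpowers t < U := lt_of_le_of_ne (zpowers_le.mpr htt) fun e => ht (by
            have hzz : z ∈ zpowers t := e ▸ hzt
            have : zpowers z = zpowers t := eq_of_le_of_card_ge (zpowers_le.mpr hzz) (by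
              rw [Nat.card_zpowers, Nat.card_zpowers, ← Subgroup.orderOf_coe t, ht3, ← Subgroup.orderOf_coe z,
                order_three hcard hS.no9 P z.2 fun e => hz1 (Subtype.ext e)])
            exact zpowers_le.mpr hz (this ▸ mem_zpowers t))
          have hgt : 3 < Nat.card U := by
            have := Set.ncard_lt_ncard (SetLike.coe_ssubset_coe.mpr hUne) (Set.toFinite _)
            rw [← Nat.card_coe_set_eq, ← Nat.card_coe_set_eq] at this
            have h' : Nat.card (zpowers t) = 3 := by rw [Nat.card_zpowers, ← Subgroup.orderOf_coe t, ht3]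
            change Nat.card (zpowers t) < Nat.card U at this
            omega
          have h9U : 9 ∣ Nat.card U := by
            have hmem' : Nat.card U ∈ Nat.divisors 27 := Nat.mem_divisors.mpr ⟨hU, by norm_num⟩
            rw [show Nat.divisors 27 = {1, 3, 9, 27} by decide +kernel] at hmem'
            simp only [Finset.mem_insert, Finset.mem_singleton] at hmem'
            omega
          refine h9U.trans ?_
          rw [show Nat.card U = Nat.card (U.map (P : Subgroup S).subtype) from (Subgroup.card_map_of_injective (P : Subgroup S).subtype_injective).symm]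
          refine card_dvd_of_le ?_
          rintro _ ⟨u, hu, rfl⟩
          exact mem_centralizer_singleton_iff.mpr (congrArg Subtype.val (mem_centralizer_singleton_iff.mp hu))
        have hc : Nat.card (centralizer ({(t : S)} : Set S)) < 30 := by
          have := Nat.le_of_dvd (by norm_num) h.2
          nlinarith
        exact search_six _ hc (Nat.mod_eq_zero_of_dvd h.2) (Nat.mod_eq_zero_of_dvd h9)
      · exfalso
        have hc := hcount P
        obtain ⟨z, hz, hz1⟩ := center_nontrivial hcard P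
        have hz3 : orderOf z = 3 := by
          rw [← Subgroup.orderOf_coe]; exact order_three hcard hS.no9 P z.2 fun e => hz1 (Subtype.ext e)
        have hzz : z ≠ z⁻¹ := fun e => by
          have : orderOf z ∣ 2 := orderOf_dvd_of_pow_eq_one (by rw [pow_two]; nth_rewrite 1 [e]; exact inv_mul_cancel z)
          rw [hz3] at this; norm_num at this
        have hsub : ({t, z, z⁻¹} : Finset (P : Subgroup S)) ⊆
            Finset.univ.filter fun u : (P : Subgroup S) => u ≠ 1 ∧ (χ₁ : S → ℂ) u = -3 := by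
          intro u hu
          simp only [Finset.mem_insert, Finset.mem_singleton] at hu
          simp only [Finset.mem_filter, Finset.mem_univ, true_and]
          rcases hu with rfl | rfl | rfl
          · exact ⟨ht1, by rw [ha, h.1]; norm_num⟩
          · exact ⟨hz1, hcen P _ hz hz1⟩
          · exact ⟨inv_ne_one.mpr hz1, hcen P _ (inv_mem hz) (inv_ne_one.mpr hz1)⟩
        have h3' := (Finset.card_le_card hsub).trans hc
        rw [Finset.card_insert_of_notMem (by
            simp only [Finset.mem_insert, Finset.mem_singleton, not_or]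
            exact ⟨fun e => ht (e ▸ hz), fun e => ht (e ▸ inv_mem hz)⟩),
          Finset.card_pair hzz] at h3'
        omega
  · -- degrees 8, 27, 18
    exfalso
    have hf : B.f = 18 := by rw [← hTabs, e1, e2]; rfl
    have hε : B.ε = -1 := by
      rw [e1, e2] at hT
      rcases B.ε_sq with k | k
      · rw [k, hf] at hT; exact absurd hT (by decide +kernel)
      · exact k
    obtain ⟨u, hu, hu1⟩ := center_nontrivial hcard P0
    have h27 := dvd_centralizer_of_central hcard P0 hu
    have hu3 := order_three hcard hS.no9 P0 u.2 fun e => hu1 (Subtype.ext e)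
    obtain ⟨a, b, r, -, hb, -, hlt', -, ha3, -, hrel', -, k, hk⟩ := hvals _ hu3
    have hb0 : b = 0 := by
      rw [hzero e2 _ hu3] at hb
      exact_mod_cast hb.symm
    rw [hε, e1, e2, hb0] at hrel'
    simp only [sg] at hrel'
    norm_num at hrel'
    have hra : r = -1 - a := by omega
    rw [hε, e1, e2, hf, hb0, hra] at hk
    simp only [sg] at hk
    norm_num [-Nat.card_eq_fintype_card] at hk
    set c := Nat.card (centralizer ({(u : S)} : Set S))
    have hk' : ((c * c * k : ℕ) : ℤ) = numEight a := by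
      have : ((c * c * k : ℕ) : ℚ) = ((numEight a : ℤ) : ℚ) := by
        rw [numEight]; push_cast; linear_combination hk
      exact_mod_cast this
    rw [e1] at hlt' ha3
    push_cast at ha3
    obtain ⟨i, hi⟩ : ∃ i : ℕ, (i : ℤ) = a + 7 := ⟨(a + 7).toNat, Int.toNat_of_nonneg (by omega)⟩
    have hne0 := search_eight i (by omega) (by omega)
    rw [show (i : ℤ) - 7 = a by omega, ← hk'] at hne0
    refine hne0 (Int.emod_eq_zero_of_dvd ?_)
    have h729 : 729 ∣ c * c * k := dvd_mul_of_dvd_left (mul_dvd_mul h27 h27) k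
    exact_mod_cast h729

end CfsgLib.GTwoTwoSpec
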