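import Cfsg.Agent.Lib.GTwoTwoSpec.CertSearch
import Mathlib

/-!
The certificate read in the permutation group of 28 points.
-/

set_option autoImplicit false
set_option linter.style.haveILetI false

noncomputable section

namespace CfsgLib.GTwoTwoSpec

open Cert Hp Equiv

/-- The values of a map as numbers. -/
def tab (f : Hp → Hp) : List ℕ := (List.range 27).map fun i => idx (f (pt i))

theorem ap_tab (f : Hp → Hp) (x : Hp) : ap (tab f) (idx x) = idx (f x) := by
  simp [ap, tab, List.getD_eq_getElem?_getD, Hp.idx_lt x, Hp.pt_idx x]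

theorem apk_tab (f : Hp → Hp) (x : Hp) : apk (tab f) (idx x) = idx (f x) := by
  rw [apk_eq, ap_tab, Nat.mod_eq_of_lt ((Hp.idx_lt _).trans (by norm_num))]

theorem tab_injective : Function.Injective tab := fun f g h => funext fun x =>
  Hp.idx_injective (by rw [← ap_tab, ← ap_tab, h])

theorem comp_tab (f g : Hp → Hp) : comp (tab f) (tab g) = tab (f ∘ g) := by
  rw [comp]
  conv_lhs => arg 2; rw [tab]
  rw [List.map_map, tab]
  exact List.map_congr_left fun i _ => ap_tab f (g (pt i))

theorem tab_id : tab id = lId := by decide +kernel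

/-- The values of an automorphism. -/
def tabA (e : MulAut Hp) : List ℕ := tab e

theorem tabA_injective : Function.Injective tabA := fun e e' h =>
  MulEquiv.ext fun x => congrFun (tab_injective h) x

theorem tabA_one : tabA 1 = lId := tab_id

theorem tabA_mul (e e' : MulAut Hp) : tabA (e * e') = comp (tabA e) (tabA e') := (comp_tab e e').symm

theorem tabA_pow (e : MulAut Hp) : ∀ n : ℕ, tabA (e ^ n) = powL (tabA e) n
  | 0 => by rw [pow_zero, tabA_one]; rfl
  | n + 1 => by rw [pow_succ', tabA_mul, tabA_pow e n]; rfl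

theorem iterL_tab (e : MulAut Hp) (x : Hp) : ∀ n : ℕ, iterL (tabA e) n (idx x) = idx ((e ^ n) x)
  | 0 => rfl
  | n + 1 => by rw [iterL, iterL_tab e x n, tabA, apk_tab, pow_succ', MulAut.mul_apply]

theorem exists_autA : ∃ e : MulAut Hp, tabA e = lA := by
  obtain ⟨e, -, -, h⟩ := exists_equiv Hp.card_eq Hp.pow_three (a := pt 3) (b := pt 4) (by decide +kernel)
  exact ⟨e, (congrArg tab (funext h)).trans (by decide +kernel)⟩

theorem exists_autB : ∃ e : MulAut Hp, tabA e = lB := by
  obtain ⟨e, -, -, h⟩ := exists_equiv Hp.card_eq Hp.pow_three (a := pt 2) (b := pt 14) (by decide +kernel)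
  exact ⟨e, (congrArg tab (funext h)).trans (by decide +kernel)⟩

/-- The first generator. -/
def autA : MulAut Hp := exists_autA.choose
/-- The second generator. -/
def autB : MulAut Hp := exists_autB.choose

theorem tab_autA : tabA autA = lA := exists_autA.choose_spec
theorem tab_autB : tabA autB = lB := exists_autB.choose_spec

theorem pow_mem_Ls {e : MulAut Hp} (h : tabA e ∈ Ls) : ∀ n : ℕ, tabA (e ^ n) ∈ Ls
  | 0 => by rw [pow_zero, tabA_one]; exact lId_mem
  | n + 1 => by rw [pow_succ', tabA_mul]; exact comp_closed _ h _ (pow_mem_Ls h n)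

/-- The Sylow 2-subgroup. -/
def H0 : Subgroup (MulAut Hp) where
  carrier := {e | tabA e ∈ Ls}
  one_mem' := by show tabA 1 ∈ Ls; rw [tabA_one]; exact lId_mem
  mul_mem' := fun {a b} ha hb => by show tabA (a * b) ∈ Ls; rw [tabA_mul]; exact comp_closed _ ha _ hb
  inv_mem' := fun {a} ha => by
    haveI : Finite (MulAut Hp) := Nat.finite_of_card_ne_zero (by rw [card_mulAut]; norm_num)
    have h : a⁻¹ = a ^ (orderOf a - 1) := inv_eq_of_mul_eq_one_right (by
      rw [← pow_succ', Nat.sub_add_cancel (orderOf_pos a), pow_orderOf_eq_one])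
    show tabA a⁻¹ ∈ Ls
    rw [h]
    exact pow_mem_Ls ha _

theorem mem_H0 {e : MulAut Hp} : e ∈ H0 ↔ tabA e ∈ Ls := Iff.rfl

theorem autA_mem : autA ∈ H0 := by rw [mem_H0, tab_autA]; exact lA_mem
theorem autB_mem : autB ∈ H0 := by rw [mem_H0, tab_autB]; exact lB_mem

theorem exists_of_mem_Ls {l : List ℕ} (h : l ∈ Ls) : ∃ e ∈ H0, tabA e = l := by
  have h' := h
  simp only [Ls_eq, List.mem_flatMap, List.mem_map, List.mem_range] at h'
  obtain ⟨i, -, j, -, rfl⟩ := h'
  exact ⟨autA ^ i * autB ^ j, mul_mem (pow_mem autA_mem i) (pow_mem autB_mem j), by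
    rw [tabA_mul, tabA_pow, tabA_pow, tab_autA, tab_autB]⟩

theorem card_H0 : Nat.card H0 = 16 := by
  have e : H0 ≃ {l // l ∈ Ls} := Equiv.ofBijective (fun e => ⟨tabA e, e.2⟩)
    ⟨fun a b h => Subtype.ext (tabA_injective (congrArg Subtype.val h)), fun l => by
      obtain ⟨e, he, hl⟩ := exists_of_mem_Ls l.2
      exact ⟨⟨e, he⟩, Subtype.ext hl⟩⟩
  rw [Nat.card_congr e, Nat.card_congr (List.Nodup.getEquiv Ls Ls_nodup).symm, Nat.card_fin, Ls_length]

/-- An automorphism on 28 points. -/
def hExt : MulAut Hp →* Perm (Option Hp) where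
  toFun e := (e : Hp ≃ Hp).optionCongr
  map_one' := by ext o; cases o <;> rfl
  map_mul' := fun a b => by ext o; cases o <;> rfl

theorem hExt_some (e : MulAut Hp) (x : Hp) : hExt e (some x) = some (e x) := rfl
theorem hExt_none (e : MulAut Hp) : hExt e none = none := rfl

theorem hExt_injective : Function.Injective hExt := fun a b h => MulEquiv.ext fun x => by
  have := congrArg (fun e : Perm (Option Hp) => e (some x)) h
  simpa [hExt_some] using this

/-- A translation on 28 points. -/
def tExt (p : Hp) : Perm (Option Hp) := (Equiv.mulLeft p).optionCongr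

theorem tExt_some (p x : Hp) : tExt p (some x) = some (p * x) := rfl
theorem tExt_none (p : Hp) : tExt p none = none := rfl

theorem lF_injective : Function.Injective fun x : Hp => pt (ap lF (idx x)) := by decide +kernel

/-- The finite part of the exchanging map. -/
def f0 : Perm Hp := Equiv.ofBijective _ (Finite.injective_iff_bijective.mp lF_injective)

theorem f0_one : f0 1 = 1 := by
  show pt (ap lF (idx 1)) = 1
  decide +kernel

theorem tab_f0 : tab f0 = lF := by
  show tab (fun x : Hp => pt (ap lF (idx x))) = lF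
  decide +kernel

/-- The exchanging map. -/
def w0 : Perm (Option Hp) := Equiv.swap none (some 1) * f0.optionCongr

/-- The number of one of the 28 points. -/
def code : Option Hp → ℕ
  | none => 27
  | some x => idx x

theorem code_lt : ∀ o : Option Hp, code o < 28
  | none => by norm_num [code]
  | some x => (Hp.idx_lt x).trans (by norm_num)

theorem code_injective : Function.Injective code := fun a b h => by
  cases a <;> cases b <;> simp only [code] at h
  · rfl
  · exact absurd h (Hp.idx_lt _).ne'
  · exact absurd h (Hp.idx_lt _).ne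
  · rw [Hp.idx_injective h]

theorem tFun_code (p : Hp) (o : Option Hp) : tFun (idx p) (code o) = code (tExt p o) := by
  cases o with
  | none => rfl
  | some x => simp [tFun, code, tExt_some, (Hp.idx_lt x).ne, Hp.idx_mul]

theorem hFun_code (h : MulAut Hp) (o : Option Hp) : hFun (tabA h) (code o) = code (hExt h o) := by
  cases o with
  | none => rfl
  | some x => simp [hFun, code, hExt_some, (Hp.idx_lt x).ne, tabA, apk_tab]

theorem invN_idx (q : Hp) : invN (idx q) = idx q⁻¹ := by
  rw [invN, ← Hp.idx_mul]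
  refine congrArg idx (eq_inv_of_mul_eq_one_left ?_)
  rw [← pow_two, ← pow_succ, Hp.pow_three]

theorem pt_ne_one {p : ℕ} (hp : p < 27) (h : p ≠ 0) : pt p ≠ 1 := fun e => h (by
  rw [← Hp.idx_pt p hp, e]; rfl)

/-- A map exchanging the two points, normalising the 2-group and compatible with the translations is
the given one up to the 2-group. -/
theorem eq_w0 (w : Perm (Option Hp)) (h0 : w none = some 1) (h1 : w (some 1) = none)
    (hn : ∀ h ∈ H0, ∃ h' ∈ H0, w * hExt h = hExt h' * w)
    (hf : ∀ p : Hp, p ≠ 1 → ∀ q : Hp, w (some p) = some q →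
      ∃ r : Hp, ∃ h ∈ H0, tExt q * w * tExt r * hExt h = w * tExt p * w) :
    ∃ h ∈ H0, w = hExt h * w0 := by
  -- the finite part
  set f : Hp → Hp := fun x => (w (some x)).getD 1 with hfdef
  have hfw : ∀ x : Hp, x ≠ 1 → w (some x) = some (f x) := by
    intro x hx
    cases hc : w (some x) with
    | none => exact absurd (Option.some.inj (w.injective (hc.trans h1.symm))) hx
    | some y => simp [hfdef, hc]
  have hf1 : f 1 = 1 := by simp [hfdef, h1]
  have hfne : ∀ x : Hp, x ≠ 1 → f x ≠ 1 := fun x hx e => by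
    have := hfw x hx
    rw [e, ← h0] at this
    exact absurd (w.injective this) (by simp)
  have hfinj : Function.Injective f := by
    intro x y e
    by_cases hx : x = 1 <;> by_cases hy : y = 1
    · rw [hx, hy]
    · exact absurd (by rw [← e, hx, hf1]) (hfne y hy)
    · exact absurd (by rw [e, hy, hf1]) (hfne x hx)
    · exact Option.some.inj (w.injective (by rw [hfw x hx, hfw y hy, e]))
  set fl := tab f with hfl
  have hw : ∀ o, wFun fl (code o) = code (w o) := by
    intro o
    cases o with
    | none => simp [wFun, code, h0, Hp.idx_one]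
    | some x =>
      by_cases hx : x = 1
      · subst hx; simp [wFun, code, h1, Hp.idx_one]
      · have hi : idx x ≠ 0 := fun e => hx (Hp.idx_injective (e.trans Hp.idx_one.symm))
        simp [wFun, code, hfw x hx, (Hp.idx_lt x).ne, hi, hfl, apk_tab]
  -- the induced automorphism of the 2-group
  obtain ⟨a, ha, hA⟩ := hn autA autA_mem
  obtain ⟨b, hb, hB⟩ := hn autB autB_mem
  have hpow : ∀ (u u' : MulAut Hp), w * hExt u = hExt u' * w → ∀ n : ℕ, w * hExt (u ^ n) = hExt (u' ^ n) * w := by
    intro u u' hu n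
    induction n with
    | zero => simp
    | succ n ih => rw [pow_succ, pow_succ, map_mul, map_mul, ← mul_assoc, ih, mul_assoc, hu, mul_assoc]
  have hmul : ∀ (u u' v v' : MulAut Hp), w * hExt u = hExt u' * w → w * hExt v = hExt v' * w →
      w * hExt (u * v) = hExt (u' * v') * w := fun u u' v v' hu hv => by
    rw [map_mul, map_mul, ← mul_assoc, hu, mul_assoc, hv, mul_assoc]
  have huniq : ∀ (u u' v v' : MulAut Hp), w * hExt u = hExt u' * w → w * hExt v = hExt v' * w →
      (u' = v' ↔ u = v) := fun u u' v v' hu hv => by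
    constructor
    · rintro rfl; exact hExt_injective (mul_left_cancel (hu.trans hv.symm))
    · rintro rfl; exact hExt_injective (mul_right_cancel (hu.symm.trans hv))
  have hone : w * hExt 1 = hExt 1 * w := by simp
  have hsig : sigmaOk (tabA a) (tabA b) = true := by
    have hs := sigmaOk_self.1
    simp only [sigmaOk, Bool.and_eq_true, bne_iff_ne, beq_iff_eq, ← tab_autA, ← tab_autB, ← tabA_pow, ← tabA_mul,
      ← tabA_one, tabA_injective.ne_iff, tabA_injective.eq_iff] at hs ⊢
    obtain ⟨⟨⟨e1, e2⟩, e3⟩, e4⟩ := hs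
    exact ⟨⟨⟨fun e => e1 ((huniq _ _ _ _ (hpow _ _ hA 4) hone).mp e),
      (huniq _ _ _ _ (hmul _ _ _ _ hB hB) hone).mpr e2⟩,
      fun e => e3 ((huniq _ _ _ _ hB (hpow _ _ hA 4)).mp e)⟩,
      (huniq _ _ _ _ (hmul _ _ _ _ hB (hmul _ _ _ _ hA hB)) (hpow _ _ hA 3)).mpr e4⟩
  -- the values determined by the representatives
  have hval : ∀ p < 27, p ≠ 0 → fval (tabA a) (tabA b) p
      (idx (f (pt (reps.getD (words.getD p (0, 0, 0)).1 0)))) = idx (f (pt p)) := by
    intro p hp hp0
    obtain ⟨-, hpr, -, -⟩ := words_spec p hp hp0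
    set i := (words.getD p (0, 0, 0)).2.1
    set j := (words.getD p (0, 0, 0)).2.2
    set r := reps.getD (words.getD p (0, 0, 0)).1 0
    have hr27 : r < 27 := by
      have key : ∀ k : ℕ, reps.getD k 0 < 27 := fun k => by
        match k with
        | 0 | 1 | 2 => decide +kernel
        | k + 3 => simp [reps]
      exact key _
    have hrel := hmul _ _ _ _ (hpow _ _ hA i) (hpow _ _ hB j)
    rw [← tab_autA, ← tab_autB, ← tabA_pow, ← tabA_pow, ← tabA_mul, ← Hp.idx_pt r hr27, tabA, ap_tab] at hpr
    have hP : (autA ^ i * autB ^ j) (pt r) = pt p := by rw [← hpr, Hp.pt_idx]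
    rw [fval, iterL_tab, iterL_tab, ← MulAut.mul_apply]
    refine congrArg idx ?_
    have hr1 : pt r ≠ 1 := fun e => pt_ne_one hp hp0 (by rw [← hP, e, map_one])
    have := congrArg (fun e : Perm (Option Hp) => e (some (pt r))) hrel
    simp only [Perm.mul_apply, hExt_some, hP, hfw _ (pt_ne_one hp hp0), hfw _ hr1] at this
    exact (Option.some.inj this).symm
  have hequi : ∀ (u u' : MulAut Hp), w * hExt u = hExt u' * w → ∀ p < 27, p ≠ 0 →
      idx (f (pt (ap (tabA u) p))) = apk (tabA u') (idx (f (pt p))) ∧ ap (tabA u) p < 27 ∧ ap (tabA u) p ≠ 0 := by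
    intro u u' hu p hp hp0
    have e : ap (tabA u) p = idx (u (pt p)) := by rw [tabA, ← ap_tab, Hp.idx_pt p hp]
    have hne : u (pt p) ≠ 1 := fun h => pt_ne_one hp hp0 (u.injective (h.trans (map_one u).symm))
    refine ⟨?_, e ▸ Hp.idx_lt _, e ▸ fun h => hne (Hp.idx_injective (h.trans Hp.idx_one.symm))⟩
    rw [e, Hp.pt_idx, tabA, apk_tab]
    have := congrArg (fun e : Perm (Option Hp) => e (some (pt p))) hu
    simp only [Perm.mul_apply, hExt_some, hfw _ hne, hfw _ (pt_ne_one hp hp0)] at this
    rw [Option.some.inj this]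
  set t : ℕ → ℕ := fun k => idx (f (pt (reps.getD k 0)))
  have hvals : ∀ k < 3, t k ∈ orbitVals (tabA a) (tabA b) k := by
    intro k hk
    have hr : reps.getD k 0 < 27 ∧ reps.getD k 0 ≠ 0 := by
      interval_cases k <;> decide +kernel
    simp only [orbitVals, List.mem_filter, List.mem_range, Bool.and_eq_true, bne_iff_ne]
    refine ⟨Hp.idx_lt _, fun e => hfne _ (pt_ne_one hr.1 hr.2) (Hp.idx_injective (e.trans Hp.idx_one.symm)), ?_⟩
    simp only [orbitOk, List.all_eq_true, List.mem_range, Bool.or_eq_true, Bool.and_eq_true, beq_iff_eq, bne_iff_ne]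
    intro p hp
    by_cases hp0 : p = 0
    · exact Or.inl (Or.inl hp0)
    by_cases hk' : (words.getD p (0, 0, 0)).1 = k
    · refine Or.inr ?_
      obtain ⟨-, -, hoA, hoB⟩ := words_spec p hp hp0
      obtain ⟨eA, lA', nA⟩ := hequi _ _ hA p hp hp0
      obtain ⟨eB, lB', nB⟩ := hequi _ _ hB p hp hp0
      rw [tab_autA] at eA lA' nA
      rw [tab_autB] at eB lB' nB
      have h1' := hval p hp hp0
      have hA' := hval _ lA' nA
      have hB' := hval _ lB' nB
      rw [hk'] at h1' hoA hoB
      rw [hoA] at hA'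
      rw [hoB] at hB'
      simp only [t]
      rw [hA', hB', h1']
      exact ⟨eA, eB⟩
    · exact Or.inl (Or.inr hk')
  have hbuild : buildF (tabA a) (tabA b) (t 0) (t 1) (t 2) = fl := by
    rw [buildF, hfl, tab]
    refine List.map_congr_left fun p hp => ?_
    rw [List.mem_range] at hp
    by_cases hp0 : p = 0
    · subst hp0
      rw [if_pos rfl, show pt 0 = 1 from rfl, hf1]
      rfl
    · rw [if_neg hp0, ← hval p hp hp0]
      obtain ⟨hk, -⟩ := words_spec p hp hp0
      refine congrArg _ ?_
      interval_cases hh : (words.getD p (0, 0, 0)).1 <;> simp [t]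
  have hclosed : closed fl = true := by
    simp only [closed, List.all_eq_true, List.mem_range, List.any_eq_true, Bool.and_eq_true, Nat.beq_eq]
    obtain ⟨p, hp1, hp, hp0⟩ : ∃ p : ℕ, p = 1 ∧ p < 27 ∧ p ≠ 0 := ⟨1, rfl, by norm_num, by norm_num⟩
    rw [← hp1]
    set x := pt p
    have hx : x ≠ 1 := pt_ne_one hp hp0
    obtain ⟨r, h, hh, heq⟩ := hf x hx (f x) (hfw x hx)
    have hr1 : r ≠ 1 := by
      intro e
      have := congrArg (fun u : Perm (Option Hp) => u (some 1)) heq
      simp [Perm.mul_apply, hExt_some, tExt_some, tExt_none, e, h1, h0] at this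
    have hfr : f r = (f x)⁻¹ := by
      have := congrArg (fun u : Perm (Option Hp) => u (some 1)) heq
      simp only [Perm.mul_apply, hExt_some, tExt_some, tExt_none, map_one, mul_one, hfw r hr1, h1, h0] at this
      exact eq_inv_of_mul_eq_one_right (Option.some.inj this)
    have hpi : p = idx x := (Hp.idx_pt p hp).symm
    refine ⟨idx r, Hp.idx_lt r, by rw [hfl, hpi, apk_tab, apk_tab, invN_idx, hfr], tabA h, hh, fun i hi => ?_⟩
    obtain ⟨o, rfl⟩ : ∃ o, code o = i := by
      by_cases h27 : i = 27
      · exact ⟨none, h27.symm⟩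
      · exact ⟨some (pt i), Hp.idx_pt i (by omega)⟩
    rw [hpi, hfl, apk_tab, ← hfl, hFun_code, tFun_code, hw, tFun_code, hw, tFun_code, hw]
    exact congrArg code (congrArg (fun u : Perm (Option Hp) => u o) heq)
  rw [← hbuild] at hclosed
  have hres := search _ ha _ hb hsig _ (hvals 0 (by norm_num)) _ (hvals 1 (by norm_num)) _
    (hvals 2 (by norm_num)) hclosed
  rw [hbuild, List.mem_map] at hres
  obtain ⟨l, hl, hlf⟩ := hres
  obtain ⟨h, hh, rfl⟩ := exists_of_mem_Ls hl
  rw [hfl, ← tab_f0, tabA, comp_tab] at hlf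
  have hf' : ∀ x, f x = h (f0 x) := fun x => (congrFun (tab_injective hlf) x).symm
  refine ⟨h, hh, Equiv.ext fun o => ?_⟩
  cases o with
  | none => simp [w0, h0, hExt_some]
  | some x =>
    by_cases hx : x = 1
    · subst hx; simp [w0, h1, f0_one, hExt_none]
    · rw [hfw x hx, hf']
      have h1' : f0 x ≠ 1 := fun e => hx (f0.injective (e.trans f0_one.symm))
      simp [w0, hExt_some, Equiv.swap_apply_of_ne_of_ne, h1']

/-- The permutation group of order 12096 on 28 points. -/
def perm28 : Subgroup (Perm (Option Hp)) :=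
  Subgroup.closure (Set.range tExt ∪ hExt '' (H0 : Set (MulAut Hp)) ∪ {w0})

end CfsgLib.GTwoTwoSpec
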