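import Cfsg.Agent.Lib.GTwoTwoSpec.Heis
import Mathlib

/-!
The certificate: an involution exchanging the two points and normalising the 2-group is determined up
to that 2-group.
-/

set_option autoImplicit false

namespace CfsgLib.GTwoTwoSpec.Cert

open Hp (mulN)

/-- The values of the first generator of the 2-group. -/
def lA : List ℕ := [0, 3, 6, 4, 16, 19, 17, 2, 23, 18, 21, 24, 22, 7, 10, 8, 20, 14, 9, 12, 15, 13, 25, 1, 26, 11, 5]
/-- The values of the second generator of the 2-group. -/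
def lB : List ℕ := [0, 2, 1, 14, 13, 12, 16, 15, 17, 18, 20, 19, 5, 4, 3, 7, 6, 8, 9, 11, 10, 23, 22, 21, 25, 24, 26]
/-- The values of the exchanging map. -/
def lF : List ℕ := [0, 1, 13, 23, 8, 26, 21, 7, 4, 18, 17, 12, 11, 2, 14, 16, 15, 10, 9, 24, 20, 6, 25, 3, 19, 22, 5]
/-- The representatives of the three orbits. -/
def reps : List ℕ := [1, 5, 9]
/-- For each point its orbit and a word carrying the representative to it. -/
def words : List (ℕ × ℕ × ℕ) := [(0, 0, 0), (0, 0, 0), (0, 0, 1), (0, 1, 0), (0, 2, 0), (1, 0, 0), (0, 1, 1),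
  (0, 7, 1), (0, 6, 0), (2, 0, 0), (0, 4, 1), (1, 5, 0), (1, 2, 0), (0, 6, 1), (0, 3, 1), (0, 5, 0), (0, 3, 0),
  (0, 2, 1), (2, 1, 0), (1, 1, 0), (0, 4, 0), (0, 5, 1), (1, 3, 0), (0, 7, 0), (1, 6, 0), (1, 4, 0), (1, 7, 0)]

/-- The value at a number. -/
def ap (p : List ℕ) (i : ℕ) : ℕ := p.getD i 0

/-- A list packed in one number, five binary digits for each entry. -/
def pk : List ℕ → ℕ
  | [] => 0
  | x :: l => x % 32 + 32 * pk l

/-- The value at a number, read from the packed list. -/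
def apk (p : List ℕ) (i : ℕ) : ℕ := pk p / 32 ^ i % 32

theorem apk_eq : ∀ (p : List ℕ) (i : ℕ), apk p i = ap p i % 32
  | [], i => by simp [apk, pk, ap]
  | x :: l, 0 => by simp [apk, pk, ap, Nat.add_mul_mod_self_left]
  | x :: l, i + 1 => by
    have h := apk_eq l i
    simp only [apk, ap, List.getD_cons_succ] at h ⊢
    rw [← h, pow_succ', ← Nat.div_div_eq_div_mul, pk,
      Nat.add_mul_div_left _ _ (by norm_num : 0 < 32), Nat.div_eq_of_lt (Nat.mod_lt _ (by norm_num)), zero_add]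

/-- Composition. -/
def comp (p q : List ℕ) : List ℕ := q.map (ap p)

/-- The identity. -/
def lId : List ℕ := List.range 27

/-- Powers. -/
def powL (p : List ℕ) : ℕ → List ℕ
  | 0 => lId
  | n + 1 => comp p (powL p n)

/-- The sixteen elements. -/
def Ls : List (List ℕ) := [
  [0, 1, 2, 3, 4, 5, 6, 7, 8, 9, 10, 11, 12, 13, 14, 15, 16, 17, 18, 19, 20, 21, 22, 23, 24, 25, 26],
  [0, 2, 1, 14, 13, 12, 16, 15, 17, 18, 20, 19, 5, 4, 3, 7, 6, 8, 9, 11, 10, 23, 22, 21, 25, 24, 26],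
  [0, 3, 6, 4, 16, 19, 17, 2, 23, 18, 21, 24, 22, 7, 10, 8, 20, 14, 9, 12, 15, 13, 25, 1, 26, 11, 5],
  [0, 6, 3, 10, 7, 22, 20, 8, 14, 9, 15, 12, 19, 16, 4, 2, 17, 23, 18, 24, 21, 1, 25, 13, 11, 26, 5],
  [0, 4, 17, 16, 20, 12, 14, 6, 1, 9, 13, 26, 25, 2, 21, 23, 15, 10, 18, 22, 8, 7, 11, 3, 5, 24, 19],
  [0, 17, 4, 21, 2, 25, 15, 23, 10, 18, 8, 22, 12, 20, 16, 6, 14, 1, 9, 26, 13, 3, 11, 7, 24, 5, 19],
  [0, 16, 14, 20, 15, 22, 10, 17, 3, 18, 7, 5, 11, 6, 13, 1, 8, 21, 9, 25, 23, 2, 24, 4, 19, 26, 12],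
  [0, 14, 16, 13, 6, 11, 8, 1, 21, 9, 23, 25, 22, 15, 20, 17, 10, 3, 18, 5, 7, 4, 24, 2, 26, 19, 12],
  [0, 20, 10, 15, 8, 25, 21, 14, 4, 9, 2, 19, 24, 17, 7, 3, 23, 13, 18, 11, 1, 6, 26, 16, 12, 5, 22],
  [0, 10, 20, 7, 17, 24, 23, 3, 13, 18, 1, 11, 25, 8, 15, 14, 21, 4, 9, 19, 2, 16, 26, 6, 5, 12, 22],
  [0, 15, 21, 8, 23, 11, 13, 10, 16, 18, 6, 12, 26, 14, 2, 4, 1, 7, 9, 24, 3, 17, 5, 20, 22, 19, 25],
  [0, 21, 15, 2, 14, 26, 1, 4, 7, 9, 3, 24, 11, 23, 8, 10, 13, 16, 18, 12, 6, 20, 5, 17, 19, 22, 25],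
  [0, 8, 13, 23, 1, 24, 7, 21, 20, 9, 17, 22, 5, 10, 6, 16, 3, 2, 18, 26, 4, 14, 19, 15, 25, 12, 11],
  [0, 13, 8, 6, 10, 5, 3, 16, 2, 18, 4, 26, 24, 1, 23, 21, 7, 20, 9, 22, 17, 15, 19, 14, 12, 25, 11],
  [0, 23, 7, 1, 3, 26, 2, 13, 15, 18, 14, 25, 19, 21, 17, 20, 4, 6, 9, 5, 16, 10, 12, 8, 11, 22, 24],
  [0, 7, 23, 17, 21, 19, 4, 20, 6, 9, 16, 5, 26, 3, 1, 13, 2, 15, 18, 25, 14, 8, 12, 10, 22, 11, 24]]

theorem Ls_eq : Ls = (List.range 8).flatMap fun i => (List.range 2).map fun j => comp (powL lA i) (powL lB j) := by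
  decide +kernel

/-- The pairs of possible images of the generators. -/
def sigmaOk (a b : List ℕ) : Bool :=
  powL a 4 != lId && comp b b == lId && b != powL a 4 && comp b (comp a b) == powL a 3

/-- Iterated application. -/
def iterL (p : List ℕ) : ℕ → ℕ → ℕ
  | 0, t => t
  | n + 1, t => apk p (iterL p n t)

/-- The value at a point of an equivariant map, from the values at the representatives. -/
def fval (a b : List ℕ) (p t : ℕ) : ℕ :=
  iterL a (words.getD p (0, 0, 0)).2.1 (iterL b (words.getD p (0, 0, 0)).2.2 t)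

/-- Whether a value at the `k`-th representative extends equivariantly to its orbit. -/
def orbitOk (a b : List ℕ) (k t : ℕ) : Bool :=
  (List.range 27).all fun p => p == 0 || (words.getD p (0, 0, 0)).1 != k ||
    (fval a b (ap lA p) t == apk a (fval a b p t) && fval a b (ap lB p) t == apk b (fval a b p t))

/-- The possible values at the `k`-th representative. -/
def orbitVals (a b : List ℕ) (k : ℕ) : List ℕ :=
  (List.range 27).filter fun t => t != 0 && orbitOk a b k t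

/-- The map with given values at the representatives. -/
def buildF (a b : List ℕ) (t0 t1 t2 : ℕ) : List ℕ :=
  (List.range 27).map fun p => if p = 0 then 0 else
    fval a b p (if (words.getD p (0, 0, 0)).1 = 0 then t0 else if (words.getD p (0, 0, 0)).1 = 1 then t1 else t2)

/-- The exchanging map on 28 points, 27 being the point at infinity. -/
def wFun (f : List ℕ) (i : ℕ) : ℕ := if i = 27 then 0 else if i = 0 then 27 else apk f i

/-- Left translation on 28 points. -/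
def tFun (p i : ℕ) : ℕ := if i = 27 then 27 else mulN p i

/-- An automorphism on 28 points. -/
def hFun (h : List ℕ) (i : ℕ) : ℕ := if i = 27 then 27 else apk h i

/-- The inverse of a point. -/
def invN (q : ℕ) : ℕ := mulN q q

/-- The condition, at the first translation, that the group generated with the translations stays
two-transitive of the right order. -/
def closed (f : List ℕ) : Bool :=
  (List.range 27).any fun r => Nat.beq (apk f r) (invN (apk f 1)) && Ls.any fun h => (List.range 28).all fun i =>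
    Nat.beq (tFun (apk f 1) (wFun f (tFun r (hFun h i)))) (wFun f (tFun 1 (wFun f i)))

set_option maxRecDepth 10000 in
theorem search : ∀ a ∈ Ls, ∀ b ∈ Ls, sigmaOk a b = true → ∀ t0 ∈ orbitVals a b 0, ∀ t1 ∈ orbitVals a b 1,
    ∀ t2 ∈ orbitVals a b 2, closed (buildF a b t0 t1 t2) = true →
      buildF a b t0 t1 t2 ∈ Ls.map fun h => comp h lF := by
  decide +kernel

set_option maxRecDepth 10000 in
theorem comp_closed : ∀ p ∈ Ls, ∀ q ∈ Ls, comp p q ∈ Ls := by decide +kernel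

theorem lId_mem : lId ∈ Ls := by decide +kernel
theorem lA_mem : lA ∈ Ls := by decide +kernel
theorem lB_mem : lB ∈ Ls := by decide +kernel
theorem Ls_nodup : Ls.Nodup := by decide +kernel
theorem Ls_length : Ls.length = 16 := by decide +kernel
theorem sigmaOk_self : sigmaOk lA lB = true ∧ powL lA 8 = lId := by decide +kernel

theorem words_spec : ∀ p < 27, p ≠ 0 → (words.getD p (0, 0, 0)).1 < 3 ∧
    ap (comp (powL lA (words.getD p (0, 0, 0)).2.1) (powL lB (words.getD p (0, 0, 0)).2.2))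
      (reps.getD (words.getD p (0, 0, 0)).1 0) = p ∧
    (words.getD (ap lA p) (0, 0, 0)).1 = (words.getD p (0, 0, 0)).1 ∧
    (words.getD (ap lB p) (0, 0, 0)).1 = (words.getD p (0, 0, 0)).1 := by
  decide +kernel

end CfsgLib.GTwoTwoSpec.Cert
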