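import Cfsg.Agent.Lib.GTwoTwoSpec.Basic
import Cfsg.Agent.Lib.SmallGroups.G2TwoUnitary.Main
import Cfsg.Agent.Lib.Chev.Orders
import Cfsg.Agent.S2366
import Mathlib

/-!
The Chevalley group of type `G₂` over two elements has no elements of orders 9, 14, 21.
-/

set_option autoImplicit false
set_option linter.style.haveILetI false

noncomputable section

namespace CfsgLib.GTwoTwoSpec

open Cfsg CfsgLib.SmallGroups.G2TwoUnitary
open CfsgLib.Techniques.UThreeLTwo CfsgLib.SmallGroups.U33Degrees

/-- The columns of the product of two root elements of order seven. -/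
def mX : List ℕ := [10070, 1297, 8045, 12015, 9997, 13183, 11152, 9544, 340, 6757, 12279, 9044, 14199, 10880]
/-- Its square. -/
def mX2 : List ℕ := [2215, 12024, 11998, 4644, 2194, 10977, 4256, 348, 4772, 11922, 6802, 8769, 11257, 14073]
/-- Its fourth power. -/
def mX4 : List ℕ := [381, 275, 11220, 340, 1399, 2448, 68, 13932, 8, 1934, 28, 108, 386, 12]

theorem word_X : wordMat [3, 7, 4, 6, 7, 6, 4, 7] = tabMat mX := by decide +kernel
theorem sq_X : tabMat mX * tabMat mX = tabMat mX2 := by decide +kernel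
theorem sq_X2 : tabMat mX2 * tabMat mX2 = tabMat mX4 := by decide +kernel
theorem seventh_X : tabMat mX4 * (tabMat mX2 * tabMat mX) = 1 := by decide +kernel
theorem ne_one_X : tabMat mX ≠ 1 := by decide +kernel

variable {F : Type*} [Field F] [Fintype F]

theorem card_chev (hF : Fintype.card F = 2) : Nat.card ↥(D2.group F) = 12096 := by
  have h := CfsgLib.Chev.order_G2 (F := F)
  rw [Nat.card_eq_fintype_card (α := F), hF] at h
  simpa using h

/-- An element of order seven inverted by an involution. -/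
theorem exists_inverted (hF : Fintype.card F = 2) :
    ∃ x t : ↥(D2.group F), orderOf x = 7 ∧ t * t = 1 ∧ t * x * t⁻¹ = x⁻¹ := by
  haveI : Fact (Nat.Prime 7) := ⟨by norm_num⟩
  haveI : CharP F 2 := charP_of_card_eq_prime (by rw [hF])
  let ι : R2 →+* F := ZMod.castHom (dvd_refl 2) F
  have hι : Function.Injective ι := ι.injective
  have sq : ∀ k ∈ [3, 4, 6, 7], (tabMat (rootTab k)).map ι * (tabMat (rootTab k)).map ι = 1 := fun k hk => by
    rw [← Matrix.map_mul, tab_sq k hk, Matrix.map_one ι (map_zero ι) (map_one ι)]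
  let ge : ∀ k, k ∈ [3, 4, 6, 7] → ↥(D2.group F) := fun k hk =>
    ⟨⟨(tabMat (rootTab k)).map ι, (tabMat (rootTab k)).map ι, sq k hk, sq k hk⟩,
      Subgroup.subset_closure ⟨rt k, 1, by rw [← rootMat_map ι, xMat_tab k hk]⟩⟩
  have geinv : ∀ k hk, (ge k hk)⁻¹ = ge k hk := fun k hk =>
    inv_eq_of_mul_eq_one_right (Subtype.ext (Units.ext (sq k hk)))
  have m3 : (3 : ℕ) ∈ [3, 4, 6, 7] := by decide
  have m4 : (4 : ℕ) ∈ [3, 4, 6, 7] := by decide
  have m6 : (6 : ℕ) ∈ [3, 4, 6, 7] := by decide
  have m7 : (7 : ℕ) ∈ [3, 4, 6, 7] := by decide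
  set r := ge 3 m3
  set s := ge 7 m7 * ge 4 m4 * ge 6 m6 * ge 7 m7 * ge 6 m6 * ge 4 m4 * ge 7 m7 with hs
  have hsinv : s⁻¹ = s := by
    simp only [hs, _root_.mul_inv_rev, geinv 4 m4, geinv 6 m6, geinv 7 m7, mul_assoc]
  have hval : (((r * s : ↥(D2.group F)) : GL D2.Idx F) : Matrix D2.Idx D2.Idx F) = (tabMat mX).map ι := by
    rw [← word_X]
    simp only [wordMat, Matrix.map_mul, Matrix.map_one ι (map_zero ι) (map_one ι), mul_one]
    simp only [r, hs, Subgroup.coe_mul, Units.val_mul, mul_assoc]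
    rfl
  have h7 : (r * s) ^ 7 = 1 := by
    refine Subtype.ext (Units.ext ?_)
    rw [SubmonoidClass.coe_pow, Units.val_pow_eq_pow_val, hval, OneMemClass.coe_one, Units.val_one,
      ← Matrix.map_one ι (map_zero ι) (map_one ι), ← seventh_X, ← sq_X2, ← sq_X]
    simp only [Matrix.map_mul, pow_succ, pow_zero, one_mul, mul_assoc]
  have h1 : r * s ≠ 1 := fun e => ne_one_X (Matrix.map_injective hι (by
    show (tabMat mX).map ι = Matrix.map (1 : Matrix D2.Idx D2.Idx R2) ι
    rw [← hval, e, Matrix.map_one ι (map_zero ι) (map_one ι)]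
    rfl))
  have hrr : r * r = 1 := by
    have := geinv 3 m3
    exact mul_eq_one_iff_inv_eq.mpr this
  refine ⟨r * s, r, orderOf_eq_prime h7 h1, hrr, ?_⟩
  have hrinv : r⁻¹ = r := geinv 3 m3
  rw [_root_.mul_inv_rev, hsinv, hrinv, ← mul_assoc r r s, hrr, one_mul]

theorem no_order (hF : Fintype.card F = 2) :
    ∃ S : Subgroup ↥(D2.group F), S.Normal ∧ S.index = 2 ∧
      ∀ g ∈ S, orderOf g ≠ 9 ∧ orderOf g ≠ 14 ∧ orderOf g ≠ 21 := by
  haveI : Fact (Nat.Prime 3) := ⟨Nat.prime_three⟩
  let K := GaloisField 3 2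
  haveI : Fintype K := Fintype.ofFinite K
  have hK : Fintype.card K = 9 := by
    rw [← Nat.card_eq_fintype_card, GaloisField.card 3 2 two_ne_zero]
    norm_num
  obtain ⟨e⟩ := CfsgLib.SmallGroups.G2TwoUnitary.main (F := F) (K := K) hF hK
  refine ⟨commutator ↥(D2.group F), inferInstance, ?_, fun g hg => ?_⟩
  · have h := Subgroup.card_mul_index (commutator ↥(D2.group F))
    rw [Nat.card_congr e.toEquiv, card_PSU hK, card_chev hF] at h
    omega
  · have hspec := Cfsg.Agent.S2366.result (F := K) 3 (by norm_num) 3 (by rw [hK]; norm_num)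
    have hmem : orderOf g ∈ Set.range (orderOf : PSU 3 K 3 → ℕ) :=
      ⟨e ⟨g, hg⟩, by rw [e.orderOf_eq, Subgroup.orderOf_mk]⟩
    rw [hspec] at hmem
    refine ⟨?_, ?_, ?_⟩ <;> intro h <;> rw [h] at hmem <;> norm_num at hmem

/-- The Chevalley group satisfies the hypotheses. -/
theorem hyp_chev (hF : Fintype.card F = 2) : Hyp ↥(D2.group F) := by
  haveI : Finite ↥(D2.group F) := Nat.finite_of_card_ne_zero (by rw [card_chev hF]; norm_num)
  obtain ⟨S, hS, hi, hno⟩ := no_order hF
  haveI := hS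
  have hodd : ∀ g : ↥(D2.group F), Odd (orderOf g) → g ∈ S := fun g hg => by
    have hd : orderOf (QuotientGroup.mk' S g) ∣ Nat.gcd 2 (orderOf g) :=
      Nat.dvd_gcd ((_root_.orderOf_dvd_natCard _).trans (dvd_of_eq hi)) (orderOf_map_dvd _ g)
    rw [(Nat.coprime_two_left.mpr hg).gcd_eq_one, Nat.dvd_one, orderOf_eq_one_iff] at hd
    exact (QuotientGroup.eq_one_iff g).mp hd
  have h21 : ∀ g : ↥(D2.group F), orderOf g ≠ 21 := fun g h => (hno g (hodd g (by rw [h]; decide))).2.2 h
  refine ⟨card_chev hF, fun g h => (hno g (hodd g (by rw [h]; decide))).1 h, ?_, h21⟩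
  intro g hg
  haveI : Fact (Nat.Prime 7) := ⟨by norm_num⟩
  haveI : Fact (Nat.Prime 2) := ⟨Nat.prime_two⟩
  obtain ⟨x, t, hx, ht, hinv⟩ := exists_inverted hF
  -- the centraliser of `x` has order seven or fourteen
  have hCS : ∀ y : S, orderOf y = 7 → Nat.card (Subgroup.centralizer ({y} : Set S)) = 7 := fun y hy =>
    centralizer_card_of ((Subgroup.card_subgroup_dvd_card S).trans (dvd_of_eq (card_chev hF))) rfl
      (fun u => by rw [← Subgroup.orderOf_coe]; exact (hno u u.2).2.1)
      (fun u => by rw [← Subgroup.orderOf_coe]; exact (hno u u.2).2.2) hy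
  have hC : ∀ y : ↥(D2.group F), orderOf y = 7 →
      Nat.card (Subgroup.centralizer ({y} : Set ↥(D2.group F))) ∣ 14 := by
    intro y hy
    have hyS : y ∈ S := hodd y (by rw [hy]; decide)
    set C := Subgroup.centralizer ({y} : Set ↥(D2.group F))
    have hle : Nat.card (S.subgroupOf C) ∣ 7 := by
      rw [← hCS ⟨y, hyS⟩ (by rw [Subgroup.orderOf_mk, hy])]
      let f : S.subgroupOf C →* Subgroup.centralizer ({⟨y, hyS⟩} : Set S) :=
        { toFun := fun c => ⟨⟨(c : C), Subgroup.mem_subgroupOf.mp c.2⟩, Subgroup.mem_centralizer_singleton_iff.mpr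
            (Subtype.ext (Subgroup.mem_centralizer_singleton_iff.mp (c : C).2))⟩
          map_one' := rfl
          map_mul' := fun _ _ => rfl }
      exact Subgroup.card_dvd_of_injective f fun a b e =>
        Subtype.ext (Subtype.ext (congrArg (fun z : Subgroup.centralizer ({⟨y, hyS⟩} : Set S) => ((z : S) : ↥(D2.group F))) e))
    have hidx : (S.subgroupOf C).index ∣ 2 := hi ▸ Subgroup.relIndex_dvd_index_of_normal S C
    rw [← Subgroup.card_mul_index (S.subgroupOf C)]
    exact mul_dvd_mul hle hidx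
  -- an element of order fourteen gives one of order seven with even centraliser
  have h14 : ∀ y : ↥(D2.group F), orderOf y = 7 → ¬ 2 ∣ Nat.card (Subgroup.centralizer ({y} : Set ↥(D2.group F))) := by
    intro y hy h2
    have hG : Nat.card ↥(D2.group F) = 7 ^ 1 * 1728 := by rw [card_chev hF]; norm_num
    obtain ⟨P, hP⟩ := (IsPGroup.of_card (p := 7) (n := 1) (by rw [Nat.card_zpowers, hy, pow_one]) :
      IsPGroup 7 (Subgroup.zpowers y)).exists_le_sylow
    obtain ⟨Q, hQ⟩ := (IsPGroup.of_card (p := 7) (n := 1) (by rw [Nat.card_zpowers, hx, pow_one]) :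
      IsPGroup 7 (Subgroup.zpowers x)).exists_le_sylow
    have hc : ∀ R : Sylow 7 ↥(D2.group F), Nat.card (R : Subgroup ↥(D2.group F)) = 7 := fun R => by
      simpa using CfsgLib.SmallGroups.card_sylow_eq hG (by norm_num) R
    have hPy := (Subgroup.eq_of_le_of_card_ge hP (by rw [hc, Nat.card_zpowers, hy])).symm
    have hQx := (Subgroup.eq_of_le_of_card_ge hQ (by rw [hc, Nat.card_zpowers, hx])).symm
    obtain ⟨k, hk⟩ := MulAction.exists_smul_eq ↥(D2.group F) P Q
    -- the centraliser of `x` is even too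
    obtain ⟨c, hc2⟩ := exists_prime_orderOf_dvd_card' (G := Subgroup.centralizer ({y} : Set ↥(D2.group F))) 2 h2
    have hcy : Commute (c : ↥(D2.group F)) y := Subgroup.mem_centralizer_singleton_iff.mp c.2
    have hxm : x ∈ (Q : Subgroup ↥(D2.group F)) := hQ (Subgroup.mem_zpowers x)
    rw [← hk, Sylow.coe_subgroup_smul, hPy, Subgroup.pointwise_smul_def] at hxm
    obtain ⟨u, hu, hux⟩ := hxm
    obtain ⟨n, rfl⟩ := Subgroup.mem_zpowers_iff.mp hu
    set d := k * (c : ↥(D2.group F)) * k⁻¹
    have hd2 : orderOf d = 2 := by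
      rw [show d = (MulAut.conj k).toMonoidHom c from rfl, orderOf_injective _ (MulAut.conj k).injective,
        Subgroup.orderOf_coe, hc2]
    have hdx : Commute d x := by
      rw [← hux]
      exact (hcy.zpow_right n).map (MulAut.conj k).toMonoidHom
    -- so it has order fourteen and the inverting involution a normalizer of order `14 e` with `e` even
    set C := Subgroup.centralizer ({x} : Set ↥(D2.group F)) with hCdef
    have hC14 : Nat.card C = 14 := by
      refine Nat.dvd_antisymm (hC x hx) (Nat.Coprime.mul_dvd_of_dvd_of_dvd (by norm_num : Nat.Coprime 2 7) ?_ ?_)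
      · exact (dvd_of_eq hd2.symm).trans (Subgroup.orderOf_dvd_natCard _ (Subgroup.mem_centralizer_singleton_iff.mpr hdx.eq))
      · exact (dvd_of_eq hx.symm).trans (Subgroup.orderOf_dvd_natCard _ (Subgroup.mem_centralizer_singleton_iff.mpr rfl))
    have hmul := CfsgLib.SmallGroups.Order459648.card_centralizer_mul_relIndex (Q : Subgroup ↥(D2.group F))
    have he := CfsgLib.Blocks.PrimeSylow.relIndex_dvd Q (hc Q)
    have hCQ : Subgroup.centralizer ((Q : Subgroup ↥(D2.group F)) : Set ↥(D2.group F)) = C := by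
      rw [hQx, Subgroup.zpowers_eq_closure, Subgroup.centralizer_closure]
    rw [hCQ, hC14] at hmul
    rw [hCQ] at he
    set N := Subgroup.normalizer ((Q : Subgroup ↥(D2.group F)) : Set ↥(D2.group F)) with hN
    set e := C.relIndex N with hedef
    have htN : t ∈ N := by
      rw [hN, hQx]
      have hmap : (Subgroup.zpowers x).map (MulAut.conj t).toMonoidHom = Subgroup.zpowers x := by
        rw [MonoidHom.map_zpowers]
        show Subgroup.zpowers (t * x * t⁻¹) = _
        rw [hinv, Subgroup.zpowers_inv]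
      intro r
      conv_rhs => rw [← hmap]
      exact (Subgroup.mem_map_iff_mem (f := (MulAut.conj t).toMonoidHom) (MulAut.conj t).injective).symm
    have hCN : C ≤ N := by
      rw [← hCQ]
      exact Subgroup.centralizer_le_normalizer _
    haveI : (C.subgroupOf N).Normal := by
      refine ⟨fun a ha g => ?_⟩
      rw [Subgroup.mem_subgroupOf, ← hCQ, Subgroup.mem_centralizer_iff] at ha ⊢
      intro q hq
      have hq' : (g : ↥(D2.group F))⁻¹ * q * g ∈ (Q : Subgroup ↥(D2.group F)) := by
        have := ((inv_mem g.2 : (g : ↥(D2.group F))⁻¹ ∈ N) q).mp hq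
        rw [inv_inv] at this
        exact this
      have e' := ha _ hq'
      simp only [Subgroup.coe_mul, Subgroup.coe_inv]
      calc q * ((g : ↥(D2.group F)) * a * (g : ↥(D2.group F))⁻¹)
          = (g : ↥(D2.group F)) * ((g : ↥(D2.group F))⁻¹ * q * g * a) * (g : ↥(D2.group F))⁻¹ := by group
        _ = _ := by rw [e']; group
    have heven : 2 ∣ e := by
      by_contra hne
      obtain ⟨j, hj⟩ : ∃ j, e = 2 * j + 1 := ⟨e / 2, by omega⟩
      have hp : (⟨t, htN⟩ : N) ^ e ∈ C.subgroupOf N := (C.subgroupOf N).pow_index_mem _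
      have ht2 : (⟨t, htN⟩ : N) ^ 2 = 1 := Subtype.ext (by
        rw [SubmonoidClass.coe_pow, pow_two]; exact ht)
      rw [hj, pow_succ, pow_mul, ht2, one_pow, one_mul, Subgroup.mem_subgroupOf, hCdef,
        Subgroup.mem_centralizer_singleton_iff] at hp
      have : x = x⁻¹ := by
        rw [← hinv]
        exact (mul_inv_eq_iff_eq_mul.mpr hp).symm
      have h2' : orderOf x ∣ 2 := orderOf_dvd_of_pow_eq_one (by rw [pow_two]; nth_rewrite 2 [this]; exact mul_inv_cancel x)
      rw [hx] at h2'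
      norm_num at h2'
    have hidx := Subgroup.card_mul_index N
    rw [← hmul, card_chev hF] at hidx
    have hn : N.index % 7 = 1 := by
      rw [hN, ← CfsgLib.SmallGroups.card_sylow_eq_index Q]
      exact CfsgLib.SmallGroups.mod_eq_one_card_sylow
    have key : ∀ e ∈ Nat.divisors 6, e % 2 = 0 → ∀ i < 865, 14 * e * i = 12096 → i % 7 ≠ 1 := by decide +kernel
    have hi865 : N.index < 865 := by
      have : 2 ≤ e := Nat.le_of_dvd (Nat.pos_of_ne_zero fun h => by rw [h] at hidx; norm_num at hidx) heven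
      nlinarith
    exact key e (Nat.mem_divisors.mpr ⟨he, by norm_num⟩) (Nat.mod_eq_zero_of_dvd heven) _ hi865 hidx hn
  have hy : orderOf (g ^ 2) = 7 := by rw [orderOf_pow, hg]; norm_num
  have hm : g ^ 7 ∈ Subgroup.centralizer ({g ^ 2} : Set ↥(D2.group F)) :=
    Subgroup.mem_centralizer_singleton_iff.mpr (Commute.pow_pow_self g 7 2).eq
  refine h14 _ hy ?_
  have h2 : orderOf (g ^ 7) = 2 := by rw [orderOf_pow, hg]; norm_num
  exact (dvd_of_eq h2.symm).trans (Subgroup.orderOf_dvd_natCard _ hm)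

end CfsgLib.GTwoTwoSpec
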