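import Cfsg.Agent.Lib.GTwoTwoSpec.SylowThree
import Cfsg.Agent.Lib.GTwoTwoSpec.Cert
import Mathlib

/-!
A group with the local data at the prime three acts on its 28 Sylow 3-subgroups as the given
permutation group.
-/

set_option autoImplicit false
set_option linter.style.haveILetI false
set_option linter.unusedSectionVars false

noncomputable section

namespace CfsgLib.GTwoTwoSpec

open Subgroup
attribute [local instance] Classical.propDecidable

variable {G : Type*} [Group G] [Finite G]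

namespace Trans

variable (hT : Trans G)
include hT

/-- A Sylow 3-subgroup is regular on the others. -/
theorem regular (P Q : Sylow 3 G) (hQ : Q ≠ P) :
    Function.Injective (fun g : (P : Subgroup G) => (g : G) • Q) ∧
      ∀ R : Sylow 3 G, R ≠ P → ∃ g ∈ (P : Subgroup G), g • Q = R := by
  haveI : Fact (Nat.Prime 3) := ⟨Nat.prime_three⟩
  have hfix : ∀ g ∈ (P : Subgroup G), g • Q = Q → g = 1 := by
    intro g hg h
    have h' : g ∈ (P : Subgroup G) ⊓ normalizer ((Q : Subgroup G) : Set G) :=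
      ⟨hg, Sylow.smul_eq_iff_mem_normalizer.mp h⟩
    have h2 := (P.2.inf_normalizer_sylow Q).le h'
    rw [hT.inter P Q hQ.symm, Subgroup.mem_bot] at h2
    exact h2
  have hinj : Function.Injective (fun g : (P : Subgroup G) => (g : G) • Q) := fun g g' h => by
    have h1 := hfix ((g : G)⁻¹ * g') (mul_mem (inv_mem g.2) g'.2) (by
      rw [mul_smul, ← show (g : G) • Q = (g' : G) • Q from h, inv_smul_smul])
    exact Subtype.ext (inv_mul_eq_one.mp h1)
  refine ⟨hinj, fun R hR => ?_⟩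
  have hne : ∀ g : (P : Subgroup G), (g : G) • Q ≠ P := fun g h => hQ (by
    have hP : (g : G) • P = P := Sylow.smul_eq_iff_mem_normalizer.mpr (le_normalizer g.2)
    exact smul_left_cancel (g : G) (h.trans hP.symm))
  haveI := Fintype.ofFinite (Sylow 3 G)
  have hb : Function.Bijective (fun g : (P : Subgroup G) => (⟨(g : G) • Q, hne g⟩ : {R : Sylow 3 G // R ≠ P})) := by
    refine (Nat.bijective_iff_injective_and_card _).mpr ⟨fun g g' h => hinj (congrArg Subtype.val h), ?_⟩
    rw [hT.sylow_card, Nat.card_eq_fintype_card, Fintype.card_subtype_compl, Fintype.card_subtype_eq,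
      ← Nat.card_eq_fintype_card, hT.count]
  obtain ⟨g, hg⟩ := hb.2 ⟨R, hR⟩
  exact ⟨g, g.2, congrArg Subtype.val hg⟩

/-- The order of a two-point stabiliser. -/
theorem card_two_stabilizer (P Q : Sylow 3 G) (hQ : Q ≠ P) :
    Nat.card (MulAction.stabilizer G P ⊓ MulAction.stabilizer G Q : Subgroup G) = 16 := by
  haveI : Fact (Nat.Prime 3) := ⟨Nat.prime_three⟩
  set H := MulAction.stabilizer G P ⊓ MulAction.stabilizer G Q
  obtain ⟨hinj, hsur⟩ := regular hT P Q hQ
  have hP : ∀ g ∈ (P : Subgroup G), g • P = P := fun g hg =>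
    Sylow.smul_eq_iff_mem_normalizer.mpr (le_normalizer hg)
  let F : ↥(P : Subgroup G) × H → MulAction.stabilizer G P := fun u =>
    ⟨(u.1 : G) * u.2, by
      show ((u.1 : G) * u.2) • P = P
      rw [mul_smul, (MulAction.mem_stabilizer_iff.mp u.2.2.1), hP _ u.1.2]⟩
  have hF : Function.Bijective F := by
    constructor
    · rintro ⟨p, h⟩ ⟨p', h'⟩ e
      have e' : (p : G) * h = p' * h' := congrArg Subtype.val e
      have h1 : p = p' := hinj (by
        show (p : G) • Q = (p' : G) • Q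
        calc (p : G) • Q = ((p : G) * h) • Q := by rw [mul_smul, MulAction.mem_stabilizer_iff.mp h.2.2]
          _ = (p' : G) • Q := by rw [e', mul_smul, MulAction.mem_stabilizer_iff.mp h'.2.2])
      subst h1
      rw [Subtype.ext (mul_left_cancel e')]
    · rintro ⟨b, hb⟩
      have hbP : b • P = P := hb
      obtain ⟨p, hp, hpQ⟩ := hsur (b • Q) fun e => hQ (smul_left_cancel b (e.trans hbP.symm))
      refine ⟨(⟨p, hp⟩, ⟨p⁻¹ * b, ⟨?_, ?_⟩⟩), Subtype.ext (mul_inv_cancel_left p b)⟩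
      · show (p⁻¹ * b) • P = P
        rw [mul_smul, hbP, inv_smul_eq_iff, hP p hp]
      · show (p⁻¹ * b) • Q = Q
        rw [mul_smul, ← hpQ, inv_smul_smul]
  have h := Nat.card_congr (Equiv.ofBijective F hF)
  rw [Nat.card_prod, hT.sylow_card] at h
  have hN : Nat.card (MulAction.stabilizer G P) = 432 := by
    rw [Sylow.stabilizer_eq_normalizer P]
    have h1 := Subgroup.card_mul_index (normalizer (P : Set G))
    rw [← Sylow.card_eq_index_normalizer P, hT.count, hT.card] at h1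
    omega
  omega

set_option maxHeartbeats 800000 in
/-- The action identifies the group with the permutation group of the certificate. -/
theorem exists_embedding : ∃ φ : G →* Equiv.Perm (Option Hp), Function.Injective φ ∧ φ.range = perm28 := by
  classical
  haveI : Fact (Nat.Prime 3) := ⟨Nat.prime_three⟩
  haveI : Fact (Nat.Prime 2) := ⟨Nat.prime_two⟩
  haveI := Fintype.ofFinite G
  haveI := Fintype.ofFinite (Sylow 3 G)
  obtain ⟨P⟩ : Nonempty (Sylow 3 G) := inferInstance
  obtain ⟨Q, hQ⟩ : ∃ Q : Sylow 3 G, Q ≠ P := by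
    haveI : Nontrivial (Sylow 3 G) := Finite.one_lt_card_iff_nontrivial.mp (by rw [hT.count]; norm_num)
    exact exists_ne P
  have hPfix : ∀ g ∈ (P : Subgroup G), g • P = P := fun g hg =>
    Sylow.smul_eq_iff_mem_normalizer.mpr (le_normalizer hg)
  obtain ⟨hinj, hsur⟩ := regular hT P Q hQ
  obtain ⟨a, b, ha, hb, hab⟩ := hT.nonabelian P
  obtain ⟨θ₀, -, -, -⟩ := exists_equiv (P := (P : Subgroup G)) (hT.sylow_card P)
    (fun t => Subtype.ext (hT.order P t t.2)) (a := ⟨a, ha⟩) (b := ⟨b, hb⟩) fun e => hab (congrArg Subtype.val e)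
  set H := MulAction.stabilizer G P ⊓ MulAction.stabilizer G Q with hH
  have hHc : Nat.card H = 16 := card_two_stabilizer hT P Q hQ
  -- the kernel of the action is trivial
  set π := MulAction.toPermHom G (Sylow 3 G)
  have hker : π.ker = ⊥ := by
    by_contra hne
    obtain ⟨g, hg, R, hR⟩ := hT.faithful π.ker inferInstance hne
    exact hR (congrArg (fun e : Equiv.Perm (Sylow 3 G) => e R) (MonoidHom.mem_ker.mp hg))
  have hHN : ∀ h : H, (h : G) ∈ normalizer ((P : Subgroup G) : Set G) := fun h =>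
    Sylow.smul_eq_iff_mem_normalizer.mp h.2.1
  let cP : H →* MulAut (P : Subgroup G) :=
    (normalizerMonoidHom (P : Subgroup G)).comp
      { toFun := fun h => ⟨h, hHN h⟩
        map_one' := rfl
        map_mul' := fun _ _ => rfl }
  let ψ : H →* MulAut Hp := (MulAut.congr θ₀.symm).toMonoidHom.comp cP
  have hψ : ∀ (h : H) (x : Hp), ((θ₀ (ψ h x) : (P : Subgroup G)) : G) = (h : G) * θ₀ x * (h : G)⁻¹ := by
    intro h x
    show ((θ₀ (θ₀.symm (cP h (θ₀.symm.symm x))) : (P : Subgroup G)) : G) = _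
    rw [MulEquiv.apply_symm_apply]
    rfl
  have hψinj : Function.Injective ψ := by
    rw [injective_iff_map_eq_one]
    intro h hh
    have hc : ∀ u ∈ (P : Subgroup G), (h : G) * u = u * h := by
      intro u hu
      have e := hψ h (θ₀.symm ⟨u, hu⟩)
      rw [hh, MulAut.one_apply, MulEquiv.apply_symm_apply] at e
      exact (mul_inv_eq_iff_eq_mul.mp e.symm)
    have hk : (h : G) ∈ π.ker := MonoidHom.mem_ker.mpr (Equiv.ext fun R => by
      show (h : G) • R = R
      by_cases hR : R = P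
      · rw [hR]; exact h.2.1
      · obtain ⟨u, hu, rfl⟩ := hsur R hR
        rw [← mul_smul, hc u hu, mul_smul, MulAction.mem_stabilizer_iff.mp h.2.2])
    rw [hker, Subgroup.mem_bot] at hk
    exact Subtype.ext hk
  -- conjugate the image to the given Sylow 2-subgroup
  haveI : Finite (MulAut Hp) := Nat.finite_of_card_ne_zero (by rw [card_mulAut]; norm_num)
  have hA : Nat.card (MulAut Hp) = 2 ^ 4 * 27 := by rw [card_mulAut]; norm_num
  have hsyl : ∀ K : Subgroup (MulAut Hp), Nat.card K = 16 → ∃ S : Sylow 2 (MulAut Hp), (S : Subgroup (MulAut Hp)) = K := by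
    intro K hK
    obtain ⟨S, hS⟩ := (IsPGroup.of_card (p := 2) (n := 4) (by rw [hK]; norm_num) : IsPGroup 2 K).exists_le_sylow
    refine ⟨S, (eq_of_le_of_card_ge hS (le_of_eq ?_)).symm⟩
    rw [CfsgLib.SmallGroups.card_sylow_eq hA (by norm_num) S, hK]
    norm_num
  obtain ⟨S₁, hS₁⟩ := hsyl ψ.range (by rw [← Nat.card_congr (MonoidHom.ofInjective hψinj).toEquiv, hHc])
  obtain ⟨S₀, hS₀⟩ := hsyl H0 card_H0
  obtain ⟨α, hα⟩ := MulAction.exists_smul_eq (MulAut Hp) S₁ S₀
  have hα' : ∀ e : MulAut Hp, e ∈ H0 ↔ ∃ h : H, α * ψ h * α⁻¹ = e := by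
    intro e
    rw [← hS₀, ← hα, Sylow.coe_subgroup_smul, hS₁, Subgroup.pointwise_smul_def]
    constructor
    · rintro ⟨_, ⟨h, rfl⟩, rfl⟩
      exact ⟨h, rfl⟩
    · rintro ⟨h, rfl⟩
      exact ⟨ψ h, ⟨h, rfl⟩, rfl⟩
  set θ : Hp ≃* (P : Subgroup G) := (α⁻¹ : MulAut Hp).trans θ₀ with hθ
  have hθψ : ∀ (h : H) (x : Hp), ((θ ((α * ψ h * α⁻¹) x) : (P : Subgroup G)) : G) = (h : G) * θ x * (h : G)⁻¹ := by
    intro h x
    show ((θ₀ (α⁻¹ (α (ψ h (α⁻¹ x)))) : (P : Subgroup G)) : G) = _
    rw [MulAut.inv_apply_self]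
    exact hψ h _
  -- the 28 points
  let ι : Option Hp → Sylow 3 G := fun o => o.elim P fun x => ((θ x : (P : Subgroup G)) : G) • Q
  have hι : Function.Bijective ι := by
    refine ⟨?_, fun R => ?_⟩
    · intro o o' e
      have hne : ∀ x : Hp, ((θ x : (P : Subgroup G)) : G) • Q ≠ P := fun x h =>
        hQ (smul_left_cancel _ (h.trans (hPfix _ (θ x).2).symm))
      cases o <;> cases o' <;> simp only [ι, Option.elim] at e
      · rfl
      · exact absurd e.symm (hne _)
      · exact absurd e (hne _)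
      · rw [θ.injective (hinj e)]
    · by_cases hR : R = P
      · exact ⟨none, hR.symm⟩
      · obtain ⟨u, hu, rfl⟩ := hsur R hR
        exact ⟨some (θ.symm ⟨u, hu⟩), by show ((θ (θ.symm ⟨u, hu⟩) : (P : Subgroup G)) : G) • Q = _; rw [MulEquiv.apply_symm_apply]⟩
  let pts := Equiv.ofBijective ι hι
  let φ : G →* Equiv.Perm (Option Hp) := (pts.symm.permCongrHom).toMonoidHom.comp π
  have hφ : ∀ (g : G) (o o' : Option Hp), φ g o = o' ↔ g • ι o = ι o' := by
    intro g o o'
    show pts.symm (g • pts.symm.symm o) = o' ↔ _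
    rw [Equiv.symm_apply_eq]
    rfl
  have hφinj : Function.Injective φ :=
    pts.symm.permCongrHom.injective.comp ((MonoidHom.ker_eq_bot_iff π).mp hker)
  have hθ1 : ((θ 1 : (P : Subgroup G)) : G) = 1 := by rw [map_one]; rfl
  have hι1 : ι (some 1) = Q := by show ((θ 1 : (P : Subgroup G)) : G) • Q = Q; rw [hθ1, one_smul]
  have ht : ∀ p : Hp, φ (θ p : (P : Subgroup G)) = tExt p := by
    intro p
    refine Equiv.ext fun o => (hφ _ _ _).mpr ?_
    cases o with
    | none => exact hPfix _ (θ p).2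
    | some x =>
      show ((θ p : (P : Subgroup G)) : G) • ((θ x : (P : Subgroup G)) : G) • Q = ((θ (p * x) : (P : Subgroup G)) : G) • Q
      rw [← mul_smul, map_mul]
      rfl
  have hh : ∀ h : H, φ h = hExt (α * ψ h * α⁻¹) := by
    intro h
    refine Equiv.ext fun o => (hφ _ _ _).mpr ?_
    cases o with
    | none => exact h.2.1
    | some x =>
      show (h : G) • ((θ x : (P : Subgroup G)) : G) • Q = ((θ ((α * ψ h * α⁻¹) x) : (P : Subgroup G)) : G) • Q
      rw [hθψ, mul_smul, mul_smul, MulAction.mem_stabilizer_iff.mp (inv_mem h.2.2)]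
  have hfixed : ∀ g : G, φ g none = none → ∃ r : Hp, ∃ e ∈ H0, φ g = tExt r * hExt e := by
    intro g hg
    have hgP : g • P = P := (hφ g none none).mp hg
    obtain ⟨u, hu, huQ⟩ := hsur (g • Q) fun e => hQ (smul_left_cancel g (e.trans hgP.symm))
    set r := θ.symm ⟨u, hu⟩
    have hr : ((θ r : (P : Subgroup G)) : G) = u := by rw [MulEquiv.apply_symm_apply]
    have hgH : u⁻¹ * g ∈ H := ⟨by
      show (u⁻¹ * g) • P = P
      rw [mul_smul, hgP, inv_smul_eq_iff, hPfix u hu], by
      show (u⁻¹ * g) • Q = Q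
      rw [mul_smul, ← huQ, inv_smul_smul]⟩
    refine ⟨r, _, (hα' _).mpr ⟨⟨_, hgH⟩, rfl⟩, ?_⟩
    rw [← ht, ← hh, ← map_mul, hr, mul_inv_cancel_left]
  -- an element exchanging the two points
  obtain ⟨g₁, hg₁⟩ := MulAction.exists_smul_eq G P Q
  have hR : g₁ • Q ≠ Q := fun e => hQ (smul_left_cancel g₁ (e.trans hg₁.symm))
  obtain ⟨q₁, hq₁, hq₁'⟩ := (regular hT Q P hQ.symm).2 (g₁ • Q) hR
  set g := q₁⁻¹ * g₁
  have hgP : g • P = Q := by
    rw [mul_smul, hg₁, inv_smul_eq_iff]
    exact (Sylow.smul_eq_iff_mem_normalizer.mpr (le_normalizer hq₁)).symm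
  have hgQ : g • Q = P := by rw [mul_smul, ← hq₁', inv_smul_smul]
  set w := φ g
  have hw0 : w none = some 1 := (hφ _ _ _).mpr (hι1.symm ▸ hgP)
  have hw1 : w (some 1) = none := (hφ _ _ _).mpr (hι1.symm ▸ hgQ)
  obtain ⟨e₀, he₀, hwe⟩ := eq_w0 w hw0 hw1 (fun e he => by
      obtain ⟨h, rfl⟩ := (hα' e).mp he
      have hconj : g * h * g⁻¹ ∈ H := ⟨by
        show (g * h * g⁻¹) • P = P
        rw [mul_smul, mul_smul, inv_smul_eq_iff.mpr hgQ.symm, MulAction.mem_stabilizer_iff.mp h.2.2, hgQ], by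
        show (g * h * g⁻¹) • Q = Q
        rw [mul_smul, mul_smul, inv_smul_eq_iff.mpr hgP.symm, MulAction.mem_stabilizer_iff.mp h.2.1, hgP]⟩
      refine ⟨_, (hα' _).mpr ⟨⟨_, hconj⟩, rfl⟩, ?_⟩
      rw [← hh, ← hh, ← map_mul, ← map_mul]
      exact congrArg φ (by group)) (fun p hp q hq => by
      obtain ⟨r, e, he, hre⟩ := hfixed (g⁻¹ * (((θ q : (P : Subgroup G)) : G))⁻¹ * g * ((θ p : (P : Subgroup G)) : G) * g) (by
        rw [map_mul, map_mul, map_mul, map_mul, map_inv, map_inv, ht, ht]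
        show w⁻¹ ((tExt q)⁻¹ (w (tExt p (w none)))) = none
        rw [hw0, tExt_some, mul_one, hq, Equiv.Perm.inv_eq_iff_eq, Equiv.Perm.inv_eq_iff_eq, hw0, tExt_some,
          mul_one])
      refine ⟨r, e, he, ?_⟩
      rw [mul_assoc _ (tExt r), ← hre, ← ht, ← ht]
      simp only [← map_mul, w]
      exact congrArg φ (by group))
  refine ⟨φ, hφinj, le_antisymm ?_ ?_⟩
  · rintro _ ⟨x, rfl⟩
    have hT' : ∀ p, tExt p ∈ perm28 := fun p => subset_closure (Or.inl (Or.inl ⟨p, rfl⟩))
    have hH' : ∀ e ∈ H0, hExt e ∈ perm28 := fun e he => subset_closure (Or.inl (Or.inr ⟨e, he, rfl⟩))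
    have hw : w ∈ perm28 := hwe ▸ mul_mem (hH' _ he₀) (subset_closure (Or.inr rfl))
    cases hx : φ x none with
    | none =>
      obtain ⟨r, e, he, hre⟩ := hfixed x hx
      rw [hre]
      exact mul_mem (hT' r) (hH' e he)
    | some p =>
      obtain ⟨r, e, he, hre⟩ := hfixed ((((θ p : (P : Subgroup G)) : G) * g)⁻¹ * x) (by
        rw [map_mul, map_inv, map_mul, ht, Equiv.Perm.mul_apply, hx, Equiv.Perm.inv_eq_iff_eq,
          Equiv.Perm.mul_apply, hw0, tExt_some, mul_one])
      rw [map_mul, map_inv, map_mul, ht, inv_mul_eq_iff_eq_mul] at hre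
      rw [hre]
      exact mul_mem (mul_mem (hT' p) hw) (mul_mem (hT' r) (hH' e he))
  · refine (closure_le _).mpr ?_
    rintro _ ((⟨p, rfl⟩ | ⟨e, he, rfl⟩) | rfl)
    · exact ⟨_, ht p⟩
    · obtain ⟨h, rfl⟩ := (hα' e).mp he
      exact ⟨h, hh h⟩
    · obtain ⟨h, hhe⟩ := (hα' e₀).mp he₀
      refine ⟨(h : G)⁻¹ * g, ?_⟩
      rw [map_mul, map_inv, hh, hhe]
      show (hExt e₀)⁻¹ * w = w0
      rw [hwe, inv_mul_cancel_left]

end Trans

/-- Two groups of order 12096 without elements of orders 9, 14, 21 are isomorphic. -/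
theorem nonempty_mulEquiv {A B : Type*} [Group A] [Finite A] [Group B] [Finite B] (hA : Hyp A) (hB : Hyp B) :
    Nonempty (A ≃* B) := by
  obtain ⟨f, hf, hfr⟩ := hA.trans.exists_embedding
  obtain ⟨g, hg, hgr⟩ := hB.trans.exists_embedding
  exact ⟨((MonoidHom.ofInjective hf).trans (MulEquiv.subgroupCongr (hfr.trans hgr.symm))).trans
    (MonoidHom.ofInjective hg).symm⟩

end CfsgLib.GTwoTwoSpec
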