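import Mathlib

/-!
The non-abelian group of order 27 and exponent three on the points `0, …, 26`, and its automorphisms.
-/

set_option autoImplicit false

namespace CfsgLib.GTwoTwoSpec

/-- The group of order 27 and exponent three. -/
structure Hp where
  /-- first coordinate -/
  a : ZMod 3
  /-- second coordinate -/
  b : ZMod 3
  /-- central coordinate -/
  c : ZMod 3
  deriving DecidableEq

namespace Hp

@[ext] theorem ext' {x y : Hp} (ha : x.a = y.a) (hb : x.b = y.b) (hc : x.c = y.c) : x = y := by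
  cases x; cases y; simp_all

/-- The coordinates. -/
def equivProd : Hp ≃ ZMod 3 × ZMod 3 × ZMod 3 where
  toFun x := (x.a, x.b, x.c)
  invFun p := ⟨p.1, p.2.1, p.2.2⟩
  left_inv _ := rfl
  right_inv _ := rfl

instance : Fintype Hp := Fintype.ofEquiv _ equivProd.symm
instance : One Hp := ⟨⟨0, 0, 0⟩⟩
instance : Mul Hp := ⟨fun x y => ⟨x.a + y.a, x.b + y.b, x.c + y.c + x.a * y.b⟩⟩
instance : Inv Hp := ⟨fun x => ⟨-x.a, -x.b, -x.c + x.a * x.b⟩⟩

theorem mul_def (x y : Hp) : x * y = ⟨x.a + y.a, x.b + y.b, x.c + y.c + x.a * y.b⟩ := rfl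
theorem one_def : (1 : Hp) = ⟨0, 0, 0⟩ := rfl
theorem inv_def (x : Hp) : x⁻¹ = ⟨-x.a, -x.b, -x.c + x.a * x.b⟩ := rfl

instance : Group Hp :=
  Group.ofLeftAxioms
    (fun x y z => by simp only [mul_def]; ext <;> ring)
    (fun x => by simp only [mul_def, one_def]; ext <;> simp)
    (fun x => by simp only [mul_def, inv_def, one_def]; ext <;> ring)

theorem card_eq : Nat.card Hp = 27 := by
  rw [Nat.card_congr equivProd, Nat.card_prod, Nat.card_prod, Nat.card_zmod]

theorem pow_three : ∀ x : Hp, x ^ 3 = 1 := by decide +kernel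

/-- The first generator. -/
def ga : Hp := ⟨1, 0, 0⟩
/-- The second generator. -/
def gb : Hp := ⟨0, 1, 0⟩

theorem ga_gb : ga * gb ≠ gb * ga := by decide +kernel

/-- The number of a point. -/
def idx (x : Hp) : ℕ := x.a.val + 3 * x.b.val + 9 * x.c.val

/-- The point of a number. -/
def pt (i : ℕ) : Hp := ⟨(i : ZMod 3), ((i / 3 : ℕ) : ZMod 3), ((i / 9 : ℕ) : ZMod 3)⟩

theorem idx_lt : ∀ x : Hp, idx x < 27 := by decide +kernel
theorem pt_idx : ∀ x : Hp, pt (idx x) = x := by decide +kernel
theorem idx_pt : ∀ i < 27, idx (pt i) = i := by decide +kernel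

theorem idx_injective : Function.Injective idx := Function.LeftInverse.injective pt_idx

/-- Multiplication on numbers. -/
def mulN (i j : ℕ) : ℕ :=
  (i + j) % 3 + 3 * ((i / 3 + j / 3) % 3) + 9 * ((i / 9 + j / 9 + i % 3 * (j / 3 % 3)) % 3)

theorem idx_mul : ∀ x y : Hp, idx (x * y) = mulN (idx x) (idx y) := by decide +kernel

theorem idx_one : idx 1 = 0 := rfl

end Hp

section Iso

variable {P : Type*} [Group P]

theorem pow_val_add (hexp : ∀ t : P, t ^ 3 = 1) (u : P) (i j : ZMod 3) :
    u ^ (i + j).val = u ^ i.val * u ^ j.val := by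
  rw [← pow_add, ZMod.val_add]
  conv_rhs => rw [← Nat.mod_add_div (i.val + j.val) 3, pow_add, pow_mul, hexp, one_pow, mul_one]

theorem pow_val_mul (hexp : ∀ t : P, t ^ 3 = 1) (u : P) (i j : ZMod 3) :
    u ^ (i * j).val = u ^ (i.val * j.val) := by
  rw [ZMod.val_mul]
  conv_rhs => rw [← Nat.mod_add_div (i.val * j.val) 3, pow_add, pow_mul, hexp, one_pow, mul_one]

/-- The centre of a non-abelian group of order 27 contains all commutators. -/
theorem commutator_central [Finite P] (hc : Nat.card P = 27) {a b : P} (hab : a * b ≠ b * a) (g h : P) :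
    (h * g)⁻¹ * (g * h) ∈ Subgroup.center P := by
  haveI : Fact (Nat.Prime 3) := ⟨Nat.prime_three⟩
  have hP : IsPGroup 3 P := IsPGroup.of_card (n := 3) (by rw [hc]; norm_num)
  haveI : Nontrivial P := Finite.one_lt_card_iff_nontrivial.mp (by omega)
  haveI := hP.center_nontrivial
  have hd : Nat.card (Subgroup.center P) ∈ Nat.divisors 27 :=
    Nat.mem_divisors.mpr ⟨(Subgroup.card_subgroup_dvd_card _).trans (dvd_of_eq hc), by norm_num⟩
  have h1 : 1 < Nat.card (Subgroup.center P) := Finite.one_lt_card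
  have hm := Subgroup.card_eq_card_quotient_mul_card_subgroup (Subgroup.center P)
  rw [hc] at hm
  rw [show Nat.divisors 27 = {1, 3, 9, 27} by decide +kernel] at hd
  simp only [Finset.mem_insert, Finset.mem_singleton] at hd
  rcases hd with e | e | e | e
  · omega
  · -- the quotient of order nine is abelian
    have hq : Nat.card (P ⧸ Subgroup.center P) = 3 ^ 2 := by rw [e] at hm; omega
    haveI := IsPGroup.isMulCommutative_of_card_eq_prime_sq hq
    rw [← QuotientGroup.eq_one_iff]
    simp only [QuotientGroup.mk_mul, QuotientGroup.mk_inv]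
    rw [mul_comm' (g : P ⧸ Subgroup.center P) h, inv_mul_cancel]
  · exfalso
    have hq : Nat.card (P ⧸ Subgroup.center P) = 3 := by rw [e] at hm; omega
    haveI := isCyclic_of_prime_card hq
    exact hab (commutative_of_cyclic_center_quotient (QuotientGroup.mk' (Subgroup.center P))
      (by rw [QuotientGroup.ker_mk']) a b)
  · exfalso
    have : Subgroup.center P = ⊤ := Subgroup.eq_top_of_card_eq _ (by rw [e, hc])
    exact hab ((Subgroup.mem_center_iff.mp (this ▸ Subgroup.mem_top b) a))

/-- The map determined by the images of the generators. -/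
def evalGen (a b : P) (x : Hp) : P := b ^ x.b.val * a ^ x.a.val * ((b * a)⁻¹ * (a * b)) ^ x.c.val

theorem evalGen_mul [Finite P] (hc : Nat.card P = 27) (hexp : ∀ t : P, t ^ 3 = 1) {a b : P}
    (hab : a * b ≠ b * a) (x y : Hp) : evalGen a b (x * y) = evalGen a b x * evalGen a b y := by
  set c := (b * a)⁻¹ * (a * b) with hcdef
  have hcen := commutator_central hc hab a b
  have hcomm : ∀ u : P, c * u = u * c := fun u => ((Subgroup.mem_center_iff.mp hcen) u).symm
  have hcpow : ∀ (n : ℕ) (u : P), c ^ n * u = u * c ^ n := fun n u =>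
    ((show Commute c u from hcomm u).pow_left n).eq
  have hbase : a * b = b * (a * c) := by rw [hcdef]; group
  have h1 : ∀ n : ℕ, a ^ n * b = b * (a ^ n * c ^ n) := by
    intro n
    induction n with
    | zero => simp
    | succ n ih =>
      calc a ^ (n + 1) * b = a ^ n * (a * b) := by rw [pow_succ, mul_assoc]
        _ = a ^ n * b * (a * c) := by rw [hbase, mul_assoc]
        _ = b * (a ^ n * (c ^ n * a) * c) := by rw [ih]; group
        _ = b * (a ^ (n + 1) * c ^ (n + 1)) := by rw [hcpow n a, pow_succ a, pow_succ c]; group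
  have h2 : ∀ n m : ℕ, a ^ n * b ^ m = b ^ m * (a ^ n * c ^ (n * m)) := by
    intro n m
    induction m with
    | zero => simp
    | succ m ih =>
      calc a ^ n * b ^ (m + 1) = b ^ m * (a ^ n * (c ^ (n * m) * b)) := by
            rw [pow_succ, ← mul_assoc, ih]; group
        _ = b ^ m * (a ^ n * b) * c ^ (n * m) := by rw [hcpow]; group
        _ = b ^ (m + 1) * (a ^ n * c ^ (n * (m + 1))) := by
            rw [h1 n, pow_succ, show n * (m + 1) = n + n * m by ring, pow_add]; group
  simp only [evalGen, Hp.mul_def, ← hcdef]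
  rw [pow_val_add hexp, pow_val_add hexp, pow_val_add hexp, pow_val_add hexp, pow_val_mul hexp]
  symm
  calc b ^ x.b.val * a ^ x.a.val * c ^ x.c.val * (b ^ y.b.val * a ^ y.a.val * c ^ y.c.val)
      = b ^ x.b.val * a ^ x.a.val * (c ^ x.c.val * (b ^ y.b.val * a ^ y.a.val)) * c ^ y.c.val := by group
    _ = b ^ x.b.val * (a ^ x.a.val * b ^ y.b.val) * a ^ y.a.val * c ^ x.c.val * c ^ y.c.val := by
        rw [hcpow x.c.val]; group
    _ = b ^ x.b.val * b ^ y.b.val * a ^ x.a.val * (c ^ (x.a.val * y.b.val) * (a ^ y.a.val * c ^ x.c.val * c ^ y.c.val)) := by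
        rw [h2]; group
    _ = _ := by rw [hcpow]; group

theorem evalGen_injective [Finite P] (hc : Nat.card P = 27) (hexp : ∀ t : P, t ^ 3 = 1) {a b : P}
    (hab : a * b ≠ b * a) : Function.Injective (evalGen a b) := by
  let φ : Hp →* P := MonoidHom.mk' (evalGen a b) (evalGen_mul hc hexp hab)
  show Function.Injective φ
  rw [injective_iff_map_eq_one]
  intro x hx
  set c := (b * a)⁻¹ * (a * b) with hcdef
  have hcen := commutator_central hc hab a b
  change b ^ x.b.val * a ^ x.a.val * c ^ x.c.val = 1 at hx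
  have hsq : ∀ i : ZMod 3, i ≠ 0 → i.val * i.val % 3 = 1 := by decide +kernel
  have hred : ∀ (u : P) (i : ZMod 3), i ≠ 0 → (u ^ i.val) ^ i.val = u := fun u i hi => by
    rw [← pow_mul, ← Nat.mod_add_div (i.val * i.val) 3, hsq i hi, pow_add, pow_one, pow_mul, hexp, one_pow,
      mul_one]
  have hca : Commute (c ^ x.c.val) a :=
    (show Commute c a from ((Subgroup.mem_center_iff.mp hcen) a).symm).pow_left _
  have hb0 : x.b = 0 := by
    by_contra hne
    have e : b ^ x.b.val = (a ^ x.a.val * c ^ x.c.val)⁻¹ := eq_inv_of_mul_eq_one_left (by rw [← mul_assoc]; exact hx)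
    have h1 : Commute (b ^ x.b.val) a := by
      rw [e]
      exact (((Commute.refl a).pow_left _).mul_left hca).inv_left
    have h2 := h1.pow_left x.b.val
    rw [hred b _ hne] at h2
    exact hab h2.eq.symm
  rw [hb0, ZMod.val_zero, pow_zero, one_mul] at hx
  have ha0 : x.a = 0 := by
    by_contra hne
    have e : a ^ x.a.val = (c ^ x.c.val)⁻¹ := eq_inv_of_mul_eq_one_left hx
    have h1 : a ^ x.a.val ∈ Subgroup.center P := e ▸ inv_mem (pow_mem hcen _)
    have h2 := pow_mem h1 x.a.val
    rw [hred a _ hne] at h2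
    exact hab ((Subgroup.mem_center_iff.mp h2) b).symm
  rw [ha0, ZMod.val_zero, pow_zero, one_mul] at hx
  have hc0 : x.c = 0 := by
    by_contra hne
    have h1 := congrArg (· ^ x.c.val) hx
    simp only [one_pow, hred c _ hne] at h1
    exact hab (inv_mul_eq_one.mp h1).symm
  exact Hp.ext' ha0 hb0 hc0

/-- A non-abelian group of order 27 and exponent three with two chosen non-commuting elements. -/
theorem exists_equiv [Finite P] (hc : Nat.card P = 27) (hexp : ∀ t : P, t ^ 3 = 1) {a b : P}
    (hab : a * b ≠ b * a) : ∃ e : Hp ≃* P, e Hp.ga = a ∧ e Hp.gb = b ∧ ∀ x, e x = evalGen a b x := by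
  have hbij : Function.Bijective (MonoidHom.mk' (evalGen a b) (evalGen_mul hc hexp hab) : Hp →* P) :=
    (Nat.bijective_iff_injective_and_card _).mpr ⟨evalGen_injective hc hexp hab, by rw [Hp.card_eq, hc]⟩
  refine ⟨MulEquiv.ofBijective _ hbij, ?_, ?_, fun x => rfl⟩
  · show evalGen a b Hp.ga = a
    simp [evalGen, Hp.ga, show (1 : ZMod 3).val = 1 from rfl]
  · show evalGen a b Hp.gb = b
    simp [evalGen, Hp.gb, show (1 : ZMod 3).val = 1 from rfl]

theorem evalGen_map {Q : Type*} [Group Q] (f : P →* Q) (a b : P) (x : Hp) :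
    f (evalGen a b x) = evalGen (f a) (f b) x := by
  simp [evalGen]

theorem evalGen_self : ∀ x : Hp, evalGen Hp.ga Hp.gb x = x := by decide +kernel

/-- An automorphism is determined by the images of the generators. -/
theorem aut_apply (e : MulAut Hp) (x : Hp) : e x = evalGen (e Hp.ga) (e Hp.gb) x := by
  conv_lhs => rw [← evalGen_self x]
  exact evalGen_map e.toMonoidHom _ _ x

theorem card_noncomm : Fintype.card {p : Hp × Hp // p.1 * p.2 ≠ p.2 * p.1} = 432 := by decide +kernel

/-- The automorphism group has order 432. -/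
theorem card_mulAut : Nat.card (MulAut Hp) = 432 := by
  rw [← card_noncomm, ← Nat.card_eq_fintype_card]
  refine Nat.card_congr (Equiv.ofBijective (fun e => ⟨(e Hp.ga, e Hp.gb), fun h => Hp.ga_gb (e.injective (by
    simpa using h))⟩) ⟨fun e e' h => ?_, fun p => ?_⟩)
  · have h' := congrArg Subtype.val h
    refine MulEquiv.ext fun x => ?_
    rw [aut_apply e, aut_apply e', (Prod.mk.injEq _ _ _ _).mp h' |>.1, (Prod.mk.injEq _ _ _ _).mp h' |>.2]
  · obtain ⟨e, h1, h2, -⟩ := exists_equiv Hp.card_eq Hp.pow_three p.2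
    exact ⟨e, Subtype.ext (Prod.ext h1 h2)⟩

end Iso

end CfsgLib.GTwoTwoSpec
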