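import Cfsg.Agent.Lib.GTwoTwoSpec.CaseTwo
import Cfsg.Agent.Lib.GTwoTwoSpec.CaseOne
import Mathlib

/-!
A group of order 12096 with the three excluded orders has 28 Sylow 3-subgroups, which meet trivially.
-/

set_option autoImplicit false
set_option linter.style.haveILetI false
set_option linter.unusedSectionVars false

noncomputable section

namespace CfsgLib.GTwoTwoSpec

open Subgroup
attribute [local instance] Classical.propDecidable

section General

variable {X : Type*} [Group X] [Finite X] {p : ℕ} [Fact p.Prime]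

/-- The stabiliser of one Sylow subgroup in another is their intersection. -/
theorem card_stabilizer_sylow (P Q : Sylow p X) :
    Nat.card (MulAction.stabilizer (P : Subgroup X) Q) = Nat.card ((P : Subgroup X) ⊓ Q : Subgroup X) := by
  have h : MulAction.stabilizer (P : Subgroup X) Q = ((P : Subgroup X) ⊓ Q).subgroupOf (P : Subgroup X) := by
    ext g
    rw [Subgroup.inf_subgroupOf_left, Subgroup.mem_subgroupOf, MulAction.mem_stabilizer_iff]
    show (g : X) • Q = Q ↔ _
    rw [Sylow.smul_eq_iff_mem_normalizer]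
    constructor
    · intro hg
      have : (g : X) ∈ (P : Subgroup X) ⊓ normalizer ((Q : Subgroup X) : Set X) := ⟨g.2, hg⟩
      exact ((P.2.inf_normalizer_sylow Q).le this).2
    · exact fun hg => le_normalizer hg
  rw [h]
  exact Nat.card_congr (Subgroup.subgroupOfEquivOfLe inf_le_left).toEquiv

/-- When all intersections with `P` have index `k`, the Sylow number is `1` modulo `k`. -/
theorem card_sylow_modEq_of_inter (P : Sylow p X) (k : ℕ)
    (hk : ∀ Q : Sylow p X, Q ≠ P → Nat.card ((P : Subgroup X) ⊓ Q : Subgroup X) * k = Nat.card (P : Subgroup X)) :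
    Nat.card (Sylow p X) ≡ 1 [MOD k] := by
  classical
  haveI := Fintype.ofFinite (Sylow p X)
  haveI := Fintype.ofFinite (MulAction.orbitRel.Quotient (P : Subgroup X) (Sylow p X))
  set Ω := MulAction.orbitRel.Quotient (P : Subgroup X) (Sylow p X)
  rw [Nat.card_congr (MulAction.selfEquivSigmaOrbits (P : Subgroup X) (Sylow p X)), Nat.card_sigma]
  set ω₀ : Ω := Quotient.mk'' P
  have horb : ∀ Q : Sylow p X, Nat.card (MulAction.orbit (P : Subgroup X) Q) *
      Nat.card ((P : Subgroup X) ⊓ Q : Subgroup X) = Nat.card (P : Subgroup X) := fun Q => by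
    rw [← card_stabilizer_sylow P Q, Nat.card_congr (MulAction.orbitEquivQuotientStabilizer _ Q)]
    exact (Subgroup.card_eq_card_quotient_mul_card_subgroup _).symm
  have hfix : ∀ g : (P : Subgroup X), g • P = P := fun g => by
    show (g : X) • P = P
    exact Sylow.smul_eq_iff_mem_normalizer.mpr (le_normalizer g.2)
  rw [← Finset.add_sum_erase _ _ (Finset.mem_univ ω₀)]
  have h0 : ω₀.out = P := by
    have h : (Quotient.mk'' ω₀.out : Ω) = Quotient.mk'' P := Quotient.out_eq' ω₀
    obtain ⟨g, hg⟩ := Quotient.eq''.mp h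
    exact hg.symm.trans (hfix g)
  have h1 : Nat.card (MulAction.orbit (P : Subgroup X) ω₀.out) = 1 := by
    have := horb P
    rw [inf_idem] at this
    rw [h0]
    exact (Nat.eq_of_mul_eq_mul_right Nat.card_pos (this.trans (one_mul _).symm))
  have h2 : k ∣ ∑ ω ∈ Finset.univ.erase ω₀, Nat.card (MulAction.orbit (P : Subgroup X) ω.out) := by
    refine Finset.dvd_sum fun ω hω => ?_
    have hne : ω.out ≠ P := fun e => Finset.ne_of_mem_erase hω (by
      rw [← Quotient.out_eq' ω, e])
    have h := (horb ω.out).trans (hk ω.out hne).symm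
    rw [mul_comm] at h
    exact dvd_of_eq (Nat.eq_of_mul_eq_mul_left Nat.card_pos h).symm
  obtain ⟨j, hj⟩ := h2
  rw [h1, hj]
  show (1 + k * j) % k = 1 % k
  rw [Nat.add_mul_mod_self_left]

/-- Sylow subgroups of a subgroup containing one of the group are traces of those of the group. -/
theorem exists_lift (P : Sylow p X) {H : Subgroup X} (hPH : (P : Subgroup X) ≤ H) (R : Sylow p H) :
    ∃ (Q : Sylow p X) (h : (Q : Subgroup X) ≤ H), Q.subtype h = R := by
  obtain ⟨Q, hQ⟩ := R.exists_comap_subtype_eq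
  have hcR : Nat.card (R : Subgroup H) = Nat.card (Q : Subgroup X) := by
    rw [Nat.card_congr (R.equiv (P.subtype hPH)).toEquiv, Sylow.coe_subtype,
      Nat.card_congr (Subgroup.subgroupOfEquivOfLe hPH).toEquiv, Nat.card_congr (P.equiv Q).toEquiv]
  have h1 : ((R : Subgroup H).map H.subtype) ≤ (Q : Subgroup X) := by
    rw [Subgroup.map_le_iff_le_comap, hQ]
  have h2 := Subgroup.eq_of_le_of_card_ge h1
    (by rw [Subgroup.card_map_of_injective H.subtype_injective, hcR])
  have hle : (Q : Subgroup X) ≤ H := by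
    rw [← h2]
    exact Subgroup.map_subtype_le _
  exact ⟨Q, hle, Sylow.ext hQ⟩

theorem card_inf_subtype {H : Subgroup X} {A B : Subgroup X} (hA : A ≤ H) :
    Nat.card (A.subgroupOf H ⊓ B.subgroupOf H : Subgroup H) = Nat.card (A ⊓ B : Subgroup X) := by
  have e : A.subgroupOf H ⊓ B.subgroupOf H = (A ⊓ B).subgroupOf H := (Subgroup.comap_inf A B H.subtype).symm
  rw [e, Nat.card_congr (Subgroup.subgroupOfEquivOfLe (inf_le_left.trans hA)).toEquiv]

end General

variable {S : Type*} [Group S] [Fintype S]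

namespace Three

variable (hT : Three S)
include hT

theorem card_sylow_eq (P : Sylow 3 S) : Nat.card (P : Subgroup S) = 27 := card_sylow_three hT.card P

theorem orderOf_coe_three (P : Sylow 3 S) {u : (P : Subgroup S)} (hu : u ≠ 1) : orderOf (u : S) = 3 :=
  hT.order P u u.2 fun e => hu (Subtype.ext e)

/-- A non-trivial central element generates the centre. -/
theorem center_eq_zpowers (P : Sylow 3 S) {z : (P : Subgroup S)} (hz : z ∈ Subgroup.center (P : Subgroup S))
    (hz1 : z ≠ 1) : Subgroup.center (P : Subgroup S) = zpowers z :=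
  (eq_of_le_of_card_ge (zpowers_le.mpr hz) (by
    rw [hT.center P, Nat.card_zpowers, ← Subgroup.orderOf_coe, orderOf_coe_three hT P hz1])).symm

theorem commutator_mem (P : Sylow 3 S) (g u : (P : Subgroup S)) :
    g * u * g⁻¹ * u⁻¹ ∈ Subgroup.center (P : Subgroup S) := by
  haveI : Fact (Nat.Prime 3) := ⟨Nat.prime_three⟩
  set Z := Subgroup.center (P : Subgroup S)
  have hq : Nat.card ((P : Subgroup S) ⧸ Z) = 3 ^ 2 := by
    have h := Subgroup.card_eq_card_quotient_mul_card_subgroup Z
    rw [hT.center P, card_sylow_eq hT P] at h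
    omega
  have hc := IsPGroup.commutative_of_card_eq_prime_sq hq
  rw [← QuotientGroup.eq_one_iff]
  simp only [QuotientGroup.mk_mul, QuotientGroup.mk_inv]
  rw [hc (g : (P : Subgroup S) ⧸ Z) u, mul_inv_cancel_right, mul_inv_cancel]

/-- Two Sylow 3-subgroups centralising an element of order three they share meet in its span. -/
theorem card_inf_of_central {z : S} (hz : orderOf z = 3) {R R' : Sylow 3 S} (hne : R ≠ R')
    (hR : (R : Subgroup S) ≤ centralizer ({z} : Set S)) (hR' : (R' : Subgroup S) ≤ centralizer ({z} : Set S)) :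
    Nat.card ((R : Subgroup S) ⊓ R' : Subgroup S) = 3 := by
  classical
  haveI : Fact (Nat.Prime 3) := ⟨Nat.prime_three⟩
  have hmem : ∀ Q : Sylow 3 S, (Q : Subgroup S) ≤ centralizer ({z} : Set S) →
      ∃ h : z ∈ (Q : Subgroup S), (⟨z, h⟩ : (Q : Subgroup S)) ∈ Subgroup.center (Q : Subgroup S) := by
    intro Q hQ
    have hP : IsPGroup 3 (zpowers z) := IsPGroup.of_card (n := 1) (by rw [Nat.card_zpowers, hz, pow_one])
    have hN : z ∈ normalizer ((Q : Subgroup S) : Set S) := by
      intro q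
      constructor
      · intro hq
        rwa [← mem_centralizer_singleton_iff.mp (hQ hq), mul_inv_cancel_right]
      · intro hq
        have h := mem_centralizer_singleton_iff.mp (hQ hq)
        have e : z * q * z⁻¹ = q := by
          have h' : z * q * z⁻¹ * z = z * (z * q * z⁻¹) := h
          calc z * q * z⁻¹ = z⁻¹ * (z * (z * q * z⁻¹)) := by group
            _ = z⁻¹ * (z * q * z⁻¹ * z) := by rw [h']
            _ = q := by group
        rwa [e] at hq
    have hzQ : z ∈ (Q : Subgroup S) := by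
      have : z ∈ zpowers z ⊓ normalizer ((Q : Subgroup S) : Set S) := ⟨mem_zpowers z, hN⟩
      exact ((hP.inf_normalizer_sylow Q).le this).2
    exact ⟨hzQ, Subgroup.mem_center_iff.mpr fun q => Subtype.ext (mem_centralizer_singleton_iff.mp (hQ q.2))⟩
  have hz1 : z ≠ 1 := fun e => by rw [e, orderOf_one] at hz; norm_num at hz
  obtain ⟨hzR, hzcR⟩ := hmem R hR
  obtain ⟨hzR', hzcR'⟩ := hmem R' hR'
  have hsub : (R : Subgroup S) ⊓ R' ≤ zpowers z := by
    intro s hs
    by_contra hsz
    have key : ∀ (Q : Sylow 3 S) (h : z ∈ (Q : Subgroup S)),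
        (⟨z, h⟩ : (Q : Subgroup S)) ∈ Subgroup.center (Q : Subgroup S) → ∀ u ∈ Subgroup.center (Q : Subgroup S),
          (u : S) ∈ zpowers z := by
      intro Q h hc u hu
      rw [center_eq_zpowers hT Q hc (fun e => hz1 (congrArg Subtype.val e))] at hu
      obtain ⟨n, rfl⟩ := mem_zpowers_iff.mp hu
      exact ⟨n, by simp⟩
    have hs9 : Nat.card (centralizer ({s} : Set S)) = 9 :=
      hT.noncentral R ⟨s, hs.1⟩ fun hc => hsz (key R hzR hzcR ⟨s, hs.1⟩ hc)
    set M : Finset S := Finset.univ.filter fun g => g * s * g⁻¹ * s⁻¹ ∈ zpowers z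
    have hsubM : ∀ (Q : Sylow 3 S) (h : z ∈ (Q : Subgroup S)),
        (⟨z, h⟩ : (Q : Subgroup S)) ∈ Subgroup.center (Q : Subgroup S) → s ∈ (Q : Subgroup S) →
        ∀ g ∈ (Q : Subgroup S), g * z = z * g ∧ g ∈ M := by
      intro Q h hc hsQ g hg
      refine ⟨congrArg Subtype.val (Subgroup.mem_center_iff.mp hc ⟨g, hg⟩), ?_⟩
      simp only [M, Finset.mem_filter, Finset.mem_univ, true_and]
      exact key Q h hc _ (commutator_mem hT Q ⟨g, hg⟩ ⟨s, hsQ⟩)
    set M' : Finset S := M.filter fun g => g * z = z * g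
    have hRM : ∀ g, g ∈ (R : Subgroup S) → g ∈ M' := fun g hg =>
      Finset.mem_filter.mpr ⟨(hsubM R hzR hzcR hs.1 g hg).2, (hsubM R hzR hzcR hs.1 g hg).1⟩
    have hR'M : ∀ g, g ∈ (R' : Subgroup S) → g ∈ M' := fun g hg =>
      Finset.mem_filter.mpr ⟨(hsubM R' hzR' hzcR' hs.2 g hg).2, (hsubM R' hzR' hzcR' hs.2 g hg).1⟩
    have hcard : M'.card ≤ 27 := by
      have himg : (M'.image fun g => g * s * g⁻¹ * s⁻¹) ⊆ Finset.univ.filter fun w => w ∈ zpowers z := by
        intro w hw
        obtain ⟨g, hg, rfl⟩ := Finset.mem_image.mp hw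
        have := (Finset.mem_filter.mp hg).1
        simpa [M] using this
      have h3 : (Finset.univ.filter fun w : S => w ∈ zpowers z).card = 3 := by
        rw [← Fintype.card_subtype, ← Nat.card_eq_fintype_card]
        show Nat.card (zpowers z) = 3
        rw [Nat.card_zpowers, hz]
      refine (Finset.card_le_mul_card_image M' 9 fun w hw => ?_).trans
        (Nat.mul_le_mul_left 9 ((Finset.card_le_card himg).trans h3.le))
      obtain ⟨g₀, hg₀, rfl⟩ := Finset.mem_image.mp hw
      refine le_trans (Finset.card_le_card_of_injOn (t := Finset.univ.filter fun c => c ∈ centralizer ({s} : Set S))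
        (fun g => g₀⁻¹ * g) (fun g hg => ?_) (fun a _ b _ h => mul_left_cancel h)) (le_of_eq ?_)
      · simp only [Finset.coe_filter, Set.mem_setOf_eq] at hg ⊢
        refine ⟨Finset.mem_univ _, ?_⟩
        rw [mem_centralizer_singleton_iff]
        have e : g * s * g⁻¹ = g₀ * s * g₀⁻¹ := mul_right_cancel hg.2
        calc g₀⁻¹ * g * s = g₀⁻¹ * (g * s * g⁻¹) * g := by group
          _ = s * (g₀⁻¹ * g) := by rw [e]; group
      · rw [← Fintype.card_subtype, ← Nat.card_eq_fintype_card]
        exact hs9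
    have hEq : ∀ Q : Sylow 3 S, (∀ g, g ∈ (Q : Subgroup S) → g ∈ M') →
        (Finset.univ.filter fun g => g ∈ (Q : Subgroup S)) = M' := by
      intro Q h
      refine Finset.eq_of_subset_of_card_le (fun g hg => h g (Finset.mem_filter.mp hg).2) ?_
      rw [← Fintype.card_subtype, ← Nat.card_eq_fintype_card]
      exact hcard.trans (card_sylow_eq hT Q).ge
    refine hne (Sylow.ext (SetLike.ext fun g => ?_))
    have h := Finset.ext_iff.mp ((hEq R hRM).trans (hEq R' hR'M).symm) g
    simpa using h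
  have he : (R : Subgroup S) ⊓ R' = zpowers z := le_antisymm hsub (zpowers_le.mpr ⟨hzR, hzR'⟩)
  rw [he, Nat.card_zpowers, hz]

/-- Distinct Sylow 3-subgroups meet trivially. -/
theorem inf_eq_bot {P Q : Sylow 3 S} (hne : P ≠ Q) : (P : Subgroup S) ⊓ Q = ⊥ := by
  classical
  haveI : Fact (Nat.Prime 3) := ⟨Nat.prime_three⟩
  by_contra hbot
  obtain ⟨t, ht, ht1⟩ := (Subgroup.ne_bot_iff_exists_ne_one.mp hbot : ∃ a : ((P : Subgroup S) ⊓ Q : Subgroup S), a ≠ 1)
    |> fun ⟨a, ha⟩ => (⟨a.1, a.2, fun e => ha (Subtype.ext e)⟩ : ∃ t, t ∈ (P : Subgroup S) ⊓ Q ∧ t ≠ 1)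
  -- a non-trivial element central in both
  have hnot9 : ∀ (R : Sylow 3 S) (u : (R : Subgroup S)), Nat.card (centralizer ({(u : S)} : Set S)) ≠ 9 →
      u ∈ Subgroup.center (R : Subgroup S) := fun R u h => by
    by_contra hc; exact h (hT.noncentral R u hc)
  have hc27 : ∀ (R : Sylow 3 S) (u : (R : Subgroup S)), u ∈ Subgroup.center (R : Subgroup S) →
      Nat.card (centralizer ({(u : S)} : Set S)) ≠ 9 := fun R u hu e => by
    have := dvd_centralizer_of_central hT.card R hu
    rw [e] at this; norm_num at this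
  obtain ⟨z, hz1, hzP, hzQ⟩ : ∃ z : S, z ≠ 1 ∧
      (∃ h : z ∈ (P : Subgroup S), (⟨z, h⟩ : (P : Subgroup S)) ∈ Subgroup.center (P : Subgroup S)) ∧
      ∃ h : z ∈ (Q : Subgroup S), (⟨z, h⟩ : (Q : Subgroup S)) ∈ Subgroup.center (Q : Subgroup S) := by
    by_cases h9 : Nat.card (centralizer ({t} : Set S)) = 9
    · obtain ⟨u, hu, hu1⟩ := center_nontrivial hT.card P
      have hut : (u : S) ∈ centralizer ({t} : Set S) :=
        mem_centralizer_singleton_iff.mpr (congrArg Subtype.val (Subgroup.mem_center_iff.mp hu ⟨t, ht.1⟩)).symm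
      have hQ9 : centralizer ({t} : Set S) ≤ (Q : Subgroup S) := by
        set U : Subgroup (Q : Subgroup S) := centralizer ({⟨t, ht.2⟩} : Set (Q : Subgroup S))
        obtain ⟨w, hw, hw1⟩ := center_nontrivial hT.card Q
        have htq : (⟨t, ht.2⟩ : (Q : Subgroup S)) ∉ Subgroup.center (Q : Subgroup S) := fun h => hc27 Q _ h h9
        have hUle : U.map (Q : Subgroup S).subtype ≤ centralizer ({t} : Set S) := by
          rintro _ ⟨g, hg, rfl⟩
          exact mem_centralizer_singleton_iff.mpr (congrArg Subtype.val (mem_centralizer_singleton_iff.mp hg))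
        have hUd : Nat.card U ∣ 27 := (card_subgroup_dvd_card _).trans (dvd_of_eq (card_sylow_eq hT Q))
        have hU3 : 3 < Nat.card U := by
          have htt : (⟨t, ht.2⟩ : (Q : Subgroup S)) ∈ U := mem_centralizer_singleton_iff.mpr rfl
          have hwU : w ∈ U := mem_centralizer_singleton_iff.mpr (Subgroup.mem_center_iff.mp hw _).symm
          by_contra hle
          have e : U = zpowers w := (eq_of_le_of_card_ge (zpowers_le.mpr hwU) (by
            rw [Nat.card_zpowers, ← Subgroup.orderOf_coe, orderOf_coe_three hT Q hw1]; omega)).symm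
          exact htq (zpowers_le.mpr hw (e ▸ htt))
        have hU9 : 9 ≤ Nat.card U := by
          have hm : Nat.card U ∈ Nat.divisors 27 := Nat.mem_divisors.mpr ⟨hUd, by norm_num⟩
          rw [show Nat.divisors 27 = {1, 3, 9, 27} by decide +kernel] at hm
          simp only [Finset.mem_insert, Finset.mem_singleton] at hm
          omega
        have e := eq_of_le_of_card_ge hUle (by
          rw [h9, Subgroup.card_map_of_injective (Q : Subgroup S).subtype_injective]; exact hU9)
        rw [← e]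
        exact map_subtype_le _
      exact ⟨u, fun e => hu1 (Subtype.ext e), ⟨u.2, hu⟩, hQ9 hut, hnot9 Q ⟨u, hQ9 hut⟩ (hc27 P u hu)⟩
    · exact ⟨t, ht1, ⟨ht.1, hnot9 P ⟨t, ht.1⟩ h9⟩, ht.2, hnot9 Q ⟨t, ht.2⟩ h9⟩
  obtain ⟨hzP', hzPc⟩ := hzP
  obtain ⟨hzQ', hzQc⟩ := hzQ
  have hz3 : orderOf z = 3 := hT.order P z hzP' hz1
  set C := centralizer ({z} : Set S) with hC
  have hPC : (P : Subgroup S) ≤ C := fun g hg =>
    mem_centralizer_singleton_iff.mpr (congrArg Subtype.val (Subgroup.mem_center_iff.mp hzPc ⟨g, hg⟩))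
  have hQC : (Q : Subgroup S) ≤ C := fun g hg =>
    mem_centralizer_singleton_iff.mpr (congrArg Subtype.val (Subgroup.mem_center_iff.mp hzQc ⟨g, hg⟩))
  have hP' : Nat.card ((P.subtype hPC : Sylow 3 C) : Subgroup C) = 27 := by
    rw [Sylow.coe_subtype, Nat.card_congr (Subgroup.subgroupOfEquivOfLe hPC).toEquiv, card_sylow_eq hT P]
  have hmod : Nat.card (Sylow 3 C) ≡ 1 [MOD 9] := by
    refine card_sylow_modEq_of_inter (P.subtype hPC) 9 fun R hR => ?_
    obtain ⟨R', hR', rfl⟩ := exists_lift P hPC R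
    rw [hP', Sylow.coe_subtype, Sylow.coe_subtype, card_inf_subtype hPC,
      card_inf_of_central hT hz3 (fun e => hR (by subst e; rfl)) hPC hR']
  have hCd : Nat.card C ∣ 6048 := hT.card ▸ card_subgroup_dvd_card C
  have h27 : 27 ∣ Nat.card C := (card_sylow_eq hT P).symm ▸ card_dvd_of_le hPC
  have h7 := hT.seven z hz3
  obtain ⟨k, hk⟩ := h27
  have hk224 : k ∣ 224 := by
    rw [hk] at hCd
    exact Nat.dvd_of_mul_dvd_mul_left (by norm_num : 0 < 27) (by simpa using hCd)
  have hk3 : ¬ 3 ∣ k := fun h => by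
    have := h.trans hk224
    norm_num at this
  have hn := CfsgLib.SmallGroups.card_sylow_dvd_of_card_eq (p := 3) (a := 3) (m := k) (G := C)
    (by rw [hk]; norm_num) hk3
  have key : ∀ k ∈ Nat.divisors 224, k % 7 ≠ 0 → ∀ n ∈ Nat.divisors k, n % 9 = 1 → n = 1 := by decide +kernel
  have h1 : Nat.card (Sylow 3 C) = 1 :=
    key k (Nat.mem_divisors.mpr ⟨hk224, by norm_num⟩)
      (fun h => h7 (hk ▸ (Nat.dvd_of_mod_eq_zero h).mul_left 27)) _
      (Nat.mem_divisors.mpr ⟨hn, fun e => hk3 (e ▸ dvd_zero 3)⟩) hmod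
  haveI := (Nat.card_eq_one_iff_unique.mp h1).1
  exact hne (Sylow.subtype_injective (Subsingleton.elim (P.subtype hPC) (Q.subtype hQC)))

theorem card_sylow : Nat.card (Sylow 3 S) = 28 := by
  classical
  haveI : Fact (Nat.Prime 3) := ⟨Nat.prime_three⟩
  obtain ⟨P⟩ : Nonempty (Sylow 3 S) := inferInstance
  have hmod : Nat.card (Sylow 3 S) ≡ 1 [MOD 27] :=
    card_sylow_modEq_of_inter P 27 fun Q hQ => by
      rw [inf_eq_bot hT hQ.symm, Subgroup.card_bot, card_sylow_eq hT P]
  have hn := CfsgLib.SmallGroups.card_sylow_dvd_of_card_eq (p := 3) (a := 3) (m := 224) (G := S)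
    (by rw [hT.card]; norm_num) (by norm_num)
  have key : ∀ n ∈ Nat.divisors 224, n % 27 = 1 → n = 1 ∨ n = 28 := by decide +kernel
  refine (key _ (Nat.mem_divisors.mpr ⟨hn, by norm_num⟩) hmod).resolve_left fun h1 => ?_
  haveI := hT.simple
  haveI := CfsgLib.SmallGroups.sylow_normal_of_card_eq_one h1 P
  rcases IsSimpleGroup.eq_bot_or_eq_top_of_normal (P : Subgroup S) inferInstance with h | h
  · have := card_sylow_eq hT P
    rw [h, Subgroup.card_bot] at this
    norm_num at this
  · have := card_sylow_eq hT P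
    rw [h, Subgroup.card_top, hT.card] at this
    norm_num at this

end Three

/-- The Sylow 3-subgroups of the whole group. -/
structure Trans (G : Type*) [Group G] : Prop where
  card : Nat.card G = 12096
  sylow_card : ∀ P : Sylow 3 G, Nat.card (P : Subgroup G) = 27
  order : ∀ P : Sylow 3 G, ∀ t ∈ (P : Subgroup G), t ^ 3 = 1
  nonabelian : ∀ P : Sylow 3 G, ∃ a b : G, a ∈ (P : Subgroup G) ∧ b ∈ (P : Subgroup G) ∧ a * b ≠ b * a
  count : Nat.card (Sylow 3 G) = 28
  inter : ∀ P Q : Sylow 3 G, P ≠ Q → (P : Subgroup G) ⊓ Q = ⊥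
  faithful : ∀ K : Subgroup G, K.Normal → K ≠ ⊥ → ∃ g ∈ K, ∃ P : Sylow 3 G, g • P ≠ P

theorem Hyp.trans {G : Type*} [Group G] [Finite G] (hH : Hyp G) : Trans G := by
  classical
  haveI := Fintype.ofFinite G
  haveI : Fact (Nat.Prime 3) := ⟨Nat.prime_three⟩
  obtain ⟨S, m, hSn, hSi, hm, hsev, hmin⟩ := hH.exists_simple
  haveI := hSn
  haveI := Fintype.ofFinite S
  simp only [List.mem_cons, List.not_mem_nil, or_false] at hm
  obtain rfl : m = 2 := by
    rcases hm with rfl | rfl | rfl | rfl
    · exact (not_index_one hsev).elim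
    · rfl
    · exact (not_index_three hsev).elim
    · exact (not_index_six hsev).elim
  have hT := three_local hsev
  have hG : Nat.card G = 3 ^ 3 * 448 := by rw [hH.card]; norm_num
  have hcard : ∀ P : Sylow 3 G, Nat.card (P : Subgroup G) = 27 := fun P => by
    simpa using CfsgLib.SmallGroups.card_sylow_eq hG (by norm_num) P
  have hle : ∀ P : Sylow 3 G, (P : Subgroup G) ≤ S := fun P g hg => by
    have hd : orderOf (QuotientGroup.mk' S g) ∣ Nat.gcd 2 27 :=
      Nat.dvd_gcd ((_root_.orderOf_dvd_natCard _).trans (dvd_of_eq hSi))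
        ((orderOf_map_dvd _ g).trans ((Subgroup.orderOf_dvd_natCard _ hg).trans (dvd_of_eq (hcard P))))
    rw [show Nat.gcd 2 27 = 1 by norm_num, Nat.dvd_one, orderOf_eq_one_iff] at hd
    exact (QuotientGroup.eq_one_iff g).mp hd
  have hinj : ∀ P Q : Sylow 3 G, P.subtype (hle P) = Q.subtype (hle Q) → P = Q := fun P Q h =>
    Sylow.subtype_injective h
  obtain ⟨P₀⟩ : Nonempty (Sylow 3 G) := inferInstance
  refine ⟨hH.card, hcard, ?_, ?_, ?_, ?_, ?_⟩
  · intro P t ht
    by_cases h1 : (⟨t, hle P ht⟩ : S) = 1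
    · rw [show t = 1 from congrArg Subtype.val h1, one_pow]
    · have := hT.order (P.subtype (hle P)) ⟨t, hle P ht⟩ (by rw [Sylow.coe_subtype, Subgroup.mem_subgroupOf]; exact ht) h1
      rw [Subgroup.orderOf_mk] at this
      rw [← this, pow_orderOf_eq_one]
  · intro P
    set P' := P.subtype (hle P)
    obtain ⟨a, ha⟩ : ∃ a : (P' : Subgroup S), a ∉ Subgroup.center (P' : Subgroup S) := by
      by_contra hall
      push Not at hall
      have h := hT.center P'
      rw [show Subgroup.center (P' : Subgroup S) = ⊤ from eq_top_iff.mpr fun u _ => hall u,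
        Subgroup.card_top, Three.card_sylow_eq hT P'] at h
      norm_num at h
    rw [Subgroup.mem_center_iff] at ha
    push Not at ha
    obtain ⟨b, hb⟩ := ha
    have hmem : ∀ u : (P' : Subgroup S), ((u : S) : G) ∈ (P : Subgroup G) := fun u => by
      have h : (u : S) ∈ (P : Subgroup G).subgroupOf S := u.2
      exact h
    exact ⟨_, _, hmem b, hmem a, fun e => hb (Subtype.ext (Subtype.ext e))⟩
  · rw [← Three.card_sylow hT, CfsgLib.SmallGroups.SylowLocal.card_sylow_eq_card_le P₀ (hle P₀),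
      Nat.card_congr (Equiv.subtypeUnivEquiv hle)]
  · intro P Q hne
    have h := Three.inf_eq_bot hT (fun e => hne (hinj P Q e))
    rw [Sylow.coe_subtype, Sylow.coe_subtype] at h
    have h2 := card_inf_subtype (H := S) (B := (Q : Subgroup G)) (hle P)
    rw [h, Subgroup.card_bot] at h2
    exact Subgroup.card_eq_one.mp h2.symm
  · intro K hK hne
    by_contra hcon
    push Not at hcon
    have hN : S ≤ normalizer ((P₀ : Subgroup G) : Set G) := fun g hg =>
      Sylow.smul_eq_iff_mem_normalizer.mp (hcon g (hmin K hK hne hg) P₀)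
    set P' := P₀.subtype (hle P₀)
    have hn : (P' : Subgroup S).Normal := by
      refine ⟨fun u hu g => ?_⟩
      rw [Sylow.coe_subtype, Subgroup.mem_subgroupOf] at hu ⊢
      exact (hN g.2 _).mp hu
    have h1 := CfsgLib.SmallGroups.card_sylow_eq_one_of_normal P' hn
    rw [Three.card_sylow hT] at h1
    norm_num at h1

end CfsgLib.GTwoTwoSpec
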